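import Mathlib

/-!
The conormal module of an ideal generated by a weakly regular sequence is free.
-/

set_option autoImplicit false
universe u

namespace Groth.Agent.Pool36

open Finset RingTheory.Sequence

variable {A : Type u} [CommRing A] {p : ℕ} {x : Fin p → A}

theorem mem_ofList_take (x : Fin p → A) (m : ℕ) :
    Ideal.ofList ((List.ofFn x).take m) = Ideal.span (x '' {i : Fin p | (i : ℕ) < m}) := by
  refine congrArg Ideal.span (Set.ext fun y => ?_)
  simp only [Set.mem_ofPred_eq, List.mem_take_iff_getElem, List.getElem_ofFn, List.length_ofFn, Set.mem_image]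
  constructor
  · rintro ⟨i, hi, rfl⟩
    exact ⟨⟨i, by omega⟩, by show i < m; omega, rfl⟩
  · rintro ⟨i, hi, rfl⟩
    exact ⟨i, lt_min hi i.2, rfl⟩

theorem relation_mem (hreg : IsWeaklyRegular A (List.ofFn x)) : ∀ m : ℕ, ∀ a : Fin p → A,
    (∀ i : Fin p, m ≤ (i : ℕ) → a i = 0) → ∑ i, a i * x i = 0 →
      ∀ i, a i ∈ Ideal.span (x '' {i : Fin p | (i : ℕ) < m}) := by
  classical
  intro m
  induction m with
  | zero => intro a ha _ i; rw [ha i (Nat.zero_le _)]; exact zero_mem _
  | succ m ih =>
    intro a ha hsum i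
    set J := Ideal.span (x '' {i : Fin p | (i : ℕ) < m})
    have hmono : J ≤ Ideal.span (x '' {i : Fin p | (i : ℕ) < m + 1}) :=
      Ideal.span_mono (Set.image_mono fun i (hi : (i : ℕ) < m) => Nat.lt_succ_of_lt hi)
    rcases le_or_gt p m with hpm | hpm
    · exact hmono (ih a (fun i hi => absurd i.2 (by omega)) hsum i)
    set q : Fin p := ⟨m, hpm⟩
    have hq : a q * x q ∈ J := by
      rw [← add_sum_erase _ _ (mem_univ q)] at hsum
      rw [eq_neg_of_add_eq_zero_left hsum]
      refine neg_mem (sum_mem fun i hi => ?_)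
      rcases lt_or_ge (i : ℕ) m with h | h
      · exact Ideal.mul_mem_left _ _ (Ideal.subset_span ⟨i, h, rfl⟩)
      · have : (i : ℕ) ≠ m := fun h' => (mem_erase.1 hi).1 (Fin.ext h')
        rw [ha i (by omega), zero_mul]; exact zero_mem _
    have hmem : a q ∈ J := by
      have h := hreg.regular_mod_prev m (by simpa using hpm)
      rw [List.getElem_ofFn, isSMulRegular_quotient_iff_mem_of_smul_mem] at h
      have h' := h (a q)
      rw [mem_ofList_take] at h'
      simp only [smul_eq_mul, Ideal.mul_top] at h'
      exact h' (by rw [mul_comm]; exact hq)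
    obtain ⟨b, hb, hb'⟩ : ∃ b : Fin p → A, (∀ i : Fin p, m ≤ (i : ℕ) → b i = 0) ∧ a q = ∑ i, b i * x i := by
      obtain ⟨l, hl, hl'⟩ := (Finsupp.mem_span_image_iff_linearCombination A).1 hmem
      refine ⟨l, fun i hi => ?_, ?_⟩
      · by_contra h
        exact absurd (hl (Finsupp.mem_support_iff.2 h)) (by simp; omega)
      · rw [← hl', Finsupp.linearCombination_apply, Finsupp.sum_fintype _ _ (fun _ => by simp)]
        exact sum_congr rfl fun i _ => smul_eq_mul _ _
    have hd := ih (fun i => if i = q then 0 else a i + b i * x q) (fun i hi => by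
      split_ifs with h
      · rfl
      · have : (i : ℕ) ≠ m := fun h' => h (Fin.ext h')
        rw [ha i (by omega), hb i hi]; ring) (by
      have e : ∀ i, (if i = q then 0 else a i + b i * x q) * x i =
          (a i * x i + (b i * x i) * x q) - if i = q then a q * x q else 0 := fun i => by
        split_ifs with h
        · subst h; rw [hb _ (le_refl m)]; ring
        · ring
      rw [sum_congr rfl fun i _ => e i, sum_sub_distrib, sum_add_distrib, ← sum_mul, ← hb', hsum,
        sum_ite_eq' univ q fun _ => a q * x q, if_pos (mem_univ q)]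
      ring)
    by_cases hiq : i = q
    · rw [hiq]; exact hmono hmem
    · have := hmono (hd i)
      rw [if_neg hiq] at this
      have hbx : b i * x q ∈ Ideal.span (x '' {i : Fin p | (i : ℕ) < m + 1}) :=
        Ideal.mul_mem_left _ _ (Ideal.subset_span ⟨q, Nat.lt_succ_self m, rfl⟩)
      simpa using sub_mem this hbx

theorem exists_basis (x : Fin p → A) (hreg : IsWeaklyRegular A (List.ofFn x)) :
    ∃ b : Module.Basis (Fin p) (A ⧸ Ideal.span (Set.range x)) (Ideal.span (Set.range x)).Cotangent,
      ∀ i, b i = (Ideal.span (Set.range x)).toCotangent ⟨x i, Ideal.subset_span (Set.mem_range_self i)⟩ := by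
  classical
  set I := Ideal.span (Set.range x) with hI
  let v : Fin p → I.Cotangent := fun i => I.toCotangent ⟨x i, Ideal.subset_span (Set.mem_range_self i)⟩
  have hv : ∀ c : Fin p → A, ∑ i, (Ideal.Quotient.mk I (c i)) • v i =
      I.toCotangent (∑ i, c i • (⟨x i, Ideal.subset_span (Set.mem_range_self i)⟩ : I)) := fun c => by
    rw [map_sum]
    refine sum_congr rfl fun i _ => ?_
    rw [map_smul]; rfl
  refine ⟨Module.Basis.mk (v := v) ?_ ?_, fun i => Module.Basis.mk_apply _ _ i⟩
  · rw [Fintype.linearIndependent_iff]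
    intro g hg i
    choose c hc using fun i => Ideal.Quotient.mk_surjective (g i)
    have hg' : ∑ i, (Ideal.Quotient.mk I (c i)) • v i = 0 :=
      (Finset.sum_congr rfl fun i _ => by rw [hc]).trans hg
    rw [hv, Ideal.toCotangent_eq_zero] at hg'
    simp only [Submodule.coe_sum, SetLike.val_smul, smul_eq_mul, sq] at hg'
    obtain ⟨d, hd, hd'⟩ := (Submodule.mem_ideal_smul_span_iff_exists_sum I x _).1
      (show ∑ i, c i * x i ∈ I • Submodule.span A (Set.range x) from hg')
    rw [← hc i, Ideal.Quotient.eq_zero_iff_mem]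
    have hrel := relation_mem hreg p (fun i => c i - d i) (fun i hi => absurd i.2 (by omega)) (by
      simp only [sub_mul, sum_sub_distrib]
      rw [← hd', Finsupp.sum_fintype _ _ (fun _ => by simp)]
      simp) i
    have := Ideal.span_mono (Set.image_subset_range _ _) hrel
    simpa using add_mem this (hd i)
  · intro z _
    obtain ⟨⟨y, hy⟩, rfl⟩ := I.toCotangent_surjective z
    obtain ⟨c, hc⟩ := (Submodule.mem_span_range_iff_exists_fun A).1 hy
    have : (⟨y, hy⟩ : I) = ∑ i, c i • (⟨x i, Ideal.subset_span (Set.mem_range_self i)⟩ : I) :=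
      Subtype.ext (by simpa using hc.symm)
    rw [this, ← hv]
    exact Submodule.sum_mem _ fun i _ => Submodule.smul_mem _ _ (Submodule.subset_span ⟨i, rfl⟩)

end Groth.Agent.Pool36
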