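import Mathlib

/-!
Symmetric polynomial two-cocycles of the additive group in characteristic `p`.
-/

set_option autoImplicit false
universe u

namespace Groth.Agent.Pool36.Cocycle

open Finset MvPolynomial

/-- An exponent vector in two variables. -/
noncomputable def m2 (i j : ℕ) : Fin 2 →₀ ℕ := Finsupp.single 0 i + Finsupp.single 1 j

/-- An exponent vector in three variables. -/
noncomputable def m3 (i j l : ℕ) : Fin 3 →₀ ℕ :=
  Finsupp.single 0 i + Finsupp.single 1 j + Finsupp.single 2 l

theorem m2_inj {a b i j : ℕ} : m2 a b = m2 i j ↔ a = i ∧ b = j := by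
  refine ⟨fun h => ⟨?_, ?_⟩, fun ⟨h1, h2⟩ => by rw [h1, h2]⟩
  · simpa [m2] using DFunLike.congr_fun h 0
  · simpa [m2] using DFunLike.congr_fun h 1

theorem m3_inj {a b c i j l : ℕ} : m3 a b c = m3 i j l ↔ a = i ∧ b = j ∧ c = l := by
  refine ⟨fun h => ⟨?_, ?_, ?_⟩, fun ⟨h1, h2, h3⟩ => by rw [h1, h2, h3]⟩
  · simpa [m3] using DFunLike.congr_fun h 0
  · simpa [m3] using DFunLike.congr_fun h 1
  · simpa [m3] using DFunLike.congr_fun h 2

theorem m2_eta (m : Fin 2 →₀ ℕ) : m2 (m 0) (m 1) = m := by
  ext i; fin_cases i <;> simp [m2]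

variable {R : Type u} [CommRing R]

theorem mon2 (a b : ℕ) : (X 0 : MvPolynomial (Fin 2) R) ^ a * X 1 ^ b = monomial (m2 a b) 1 := by
  rw [X_pow_eq_monomial, X_pow_eq_monomial, monomial_mul, one_mul]; rfl

theorem mon3 (a b c : ℕ) :
    (X 0 : MvPolynomial (Fin 3) R) ^ a * X 1 ^ b * X 2 ^ c = monomial (m3 a b c) 1 := by
  rw [X_pow_eq_monomial, X_pow_eq_monomial, X_pow_eq_monomial, monomial_mul, monomial_mul, one_mul, one_mul]
  rfl

theorem coeff_mon3 (a b c i j l : ℕ) :
    coeff (m3 i j l) ((X 0 : MvPolynomial (Fin 3) R) ^ a * X 1 ^ b * X 2 ^ c) =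
      if a = i ∧ b = j ∧ c = l then 1 else 0 := by
  rw [mon3, coeff_monomial]
  exact if_congr m3_inj rfl rfl

/-- The cocycle differential. -/
noncomputable def D (F : MvPolynomial (Fin 2) R) : MvPolynomial (Fin 3) R :=
  aeval ![X 0, X 1 + X 2] F + aeval ![X 1, X 2] F - aeval ![X 0 + X 1, X 2] F - aeval ![X 0, X 1] F

/-- Exchange of the two variables. -/
noncomputable def swap (F : MvPolynomial (Fin 2) R) : MvPolynomial (Fin 2) R := aeval ![X 1, X 0] F

theorem D_add (F G : MvPolynomial (Fin 2) R) : D (F + G) = D F + D G := by simp [D]; ring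

theorem D_sub (F G : MvPolynomial (Fin 2) R) : D (F - G) = D F - D G := by simp [D]; ring

theorem D_C_mul (c : R) (F : MvPolynomial (Fin 2) R) : D (C c * F) = C c * D F := by
  simp [D, MvPolynomial.algebraMap_eq]; ring

theorem D_sum {ι : Type*} (s : Finset ι) (f : ι → MvPolynomial (Fin 2) R) : D (∑ i ∈ s, f i) = ∑ i ∈ s, D (f i) := by
  simp [D, sum_add_distrib, sum_sub_distrib]

theorem swap_sub (F G : MvPolynomial (Fin 2) R) : swap (F - G) = swap F - swap G := by simp [swap]

/-- The coefficient of `X^i Y^j Z^l` in the cocycle differential. -/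
theorem coeff_D (F : MvPolynomial (Fin 2) R) (i j l : ℕ) :
    coeff (m3 i j l) (D F) =
      coeff (m2 i (j + l)) F * ((j + l).choose j : R) + (if i = 0 then coeff (m2 j l) F else 0)
        - coeff (m2 (i + j) l) F * ((i + j).choose i : R) - (if l = 0 then coeff (m2 i j) F else 0) := by
  induction F using MvPolynomial.induction_on' with
  | add p q hp hq =>
    rw [D_add, coeff_add, hp, hq]
    simp only [coeff_add]
    split_ifs <;> ring
  | monomial m c =>
    obtain ⟨a, b, rfl⟩ : ∃ a b, m = m2 a b := ⟨m 0, m 1, (m2_eta m).symm⟩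
    have hD : D (monomial (m2 a b) c) = C c * ((X 0 ^ a * (X 1 + X 2) ^ b + X 1 ^ a * X 2 ^ b
        - (X 0 + X 1) ^ a * X 2 ^ b - X 0 ^ a * X 1 ^ b)) := by
      rw [← mul_one c, ← C_mul_monomial, ← mon2, D_C_mul, mul_one]
      simp [D]
    have t1 : coeff (m3 i j l) ((X 0 : MvPolynomial (Fin 3) R) ^ a * (X 1 + X 2) ^ b) =
        if a = i ∧ b = j + l then (b.choose j : R) else 0 := by
      rw [add_pow, mul_sum, coeff_sum]
      have : ∀ x, (X 0 : MvPolynomial (Fin 3) R) ^ a * (X 1 ^ x * X 2 ^ (b - x) * (b.choose x : MvPolynomial (Fin 3) R)) =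
          C (b.choose x : R) * (X 0 ^ a * X 1 ^ x * X 2 ^ (b - x)) := fun x => by rw [map_natCast]; ring
      simp only [this, coeff_C_mul, coeff_mon3, mul_ite, mul_one, mul_zero]
      split_ifs with h
      · obtain ⟨rfl, rfl⟩ := h
        rw [sum_eq_single j]
        · simp
        · intro x _ hx; simp [hx]
        · intro h; simp at h
      · exact sum_eq_zero fun x hx => if_neg fun ⟨h1, h2, h3⟩ => h ⟨h1, by rw [mem_range] at hx; omega⟩
    have t3 : coeff (m3 i j l) (((X 0 : MvPolynomial (Fin 3) R) + X 1) ^ a * X 2 ^ b) =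
        if a = i + j ∧ b = l then (a.choose i : R) else 0 := by
      rw [add_pow, sum_mul, coeff_sum]
      have : ∀ x, ((X 0 : MvPolynomial (Fin 3) R) ^ x * X 1 ^ (a - x) * (a.choose x : MvPolynomial (Fin 3) R)) * X 2 ^ b =
          C (a.choose x : R) * (X 0 ^ x * X 1 ^ (a - x) * X 2 ^ b) := fun x => by rw [map_natCast]; ring
      simp only [this, coeff_C_mul, coeff_mon3, mul_ite, mul_one, mul_zero]
      split_ifs with h
      · obtain ⟨rfl, rfl⟩ := h
        rw [sum_eq_single i]
        · simp
        · intro x _ hx; simp [hx]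
        · intro h; simp at h
      · exact sum_eq_zero fun x hx => if_neg fun ⟨h1, h2, h3⟩ => h ⟨by rw [mem_range] at hx; omega, h3⟩
    have t2 : coeff (m3 i j l) ((X 1 : MvPolynomial (Fin 3) R) ^ a * X 2 ^ b) =
        if i = 0 ∧ a = j ∧ b = l then 1 else 0 := by
      have := coeff_mon3 (R := R) 0 a b i j l
      rw [pow_zero, one_mul] at this
      rw [this]; exact if_congr ⟨fun h => ⟨h.1.symm, h.2⟩, fun h => ⟨h.1.symm, h.2⟩⟩ rfl rfl
    have t4 : coeff (m3 i j l) ((X 0 : MvPolynomial (Fin 3) R) ^ a * X 1 ^ b) =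
        if l = 0 ∧ a = i ∧ b = j then 1 else 0 := by
      have := coeff_mon3 (R := R) a b 0 i j l
      rw [pow_zero, mul_one] at this
      rw [this]; exact if_congr ⟨fun h => ⟨h.2.2.symm, h.1, h.2.1⟩, fun h => ⟨h.2.1, h.2.2, h.1.symm⟩⟩ rfl rfl
    rw [hD, coeff_C_mul, coeff_sub, coeff_sub, coeff_add, t1, t2, t3, t4]
    simp only [coeff_monomial, m2_inj]
    rw [mul_sub, mul_sub, mul_add]
    congr 1
    · congr 1
      · congr 1
        · split_ifs with h <;> first | (obtain ⟨rfl, rfl⟩ := h; rfl) | ring1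
        · split_ifs <;> first | ring1 | (exfalso; tauto)
      · split_ifs with h <;> first | (obtain ⟨rfl, rfl⟩ := h; rfl) | ring1
    · split_ifs <;> first | ring1 | (exfalso; tauto)

theorem coeff_swap (F : MvPolynomial (Fin 2) R) (i j : ℕ) : coeff (m2 i j) (swap F) = coeff (m2 j i) F := by
  induction F using MvPolynomial.induction_on' with
  | add p q hp hq => rw [swap, map_add, coeff_add, coeff_add]; exact congrArg₂ (· + ·) hp hq
  | monomial m c =>
    obtain ⟨a, b, rfl⟩ : ∃ a b, m = m2 a b := ⟨m 0, m 1, (m2_eta m).symm⟩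
    rw [swap, ← mul_one c, ← C_mul_monomial, map_mul, aeval_C, MvPolynomial.algebraMap_eq, coeff_C_mul,
      coeff_C_mul, ← mon2, map_mul, map_pow, map_pow, aeval_X, aeval_X]
    simp only [Matrix.cons_val_zero, Matrix.cons_val_one]
    rw [mul_comm (X 1 ^ a), mon2, mon2, coeff_monomial, coeff_monomial]
    congr 1
    exact if_congr (by rw [m2_inj, m2_inj]; tauto) rfl rfl

/-- The coboundary of a one-variable polynomial. -/
noncomputable def cob (G : Polynomial R) : MvPolynomial (Fin 2) R :=
  Polynomial.aeval (X 0 + X 1) G - Polynomial.aeval (X 0) G - Polynomial.aeval (X 1) G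

/-- The basic non-trivial cocycle. -/
noncomputable def S (p : ℕ) : MvPolynomial (Fin 2) R :=
  ∑ j ∈ Ioo 0 p, C ((p.choose j / p : ℕ) : R) * X 0 ^ j * X 1 ^ (p - j)

/-- Substitution of `q`-th powers. -/
noncomputable def pw (q : ℕ) (F : MvPolynomial (Fin 2) R) : MvPolynomial (Fin 2) R :=
  aeval ![X 0 ^ q, X 1 ^ q] F

theorem D_cob (G : Polynomial R) : D (cob G) = 0 := by
  simp only [cob, D, map_sub, ← Polynomial.aeval_algHom_apply, map_add, aeval_X, Matrix.cons_val_zero,
    Matrix.cons_val_one]
  ring_nf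

theorem swap_cob (G : Polynomial R) : swap (cob G) = cob G := by
  simp only [cob, swap, map_sub, ← Polynomial.aeval_algHom_apply, map_add, aeval_X, Matrix.cons_val_zero,
    Matrix.cons_val_one]
  rw [add_comm (X 1 : MvPolynomial (Fin 2) R) (X 0)]; ring

theorem coeff_cob (G : Polynomial R) (i j : ℕ) :
    coeff (m2 i j) (cob G) = G.coeff (i + j) * (((i + j).choose i : R) - (if j = 0 then 1 else 0)
      - (if i = 0 then 1 else 0)) := by
  induction G using Polynomial.induction_on' with
  | add p q hp hq =>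
    rw [show cob (p + q) = cob p + cob q by simp [cob]; ring, coeff_add, hp, hq, Polynomial.coeff_add, add_mul]
  | monomial n c =>
    have e1 : coeff (m2 i j) ((X 0 + X 1 : MvPolynomial (Fin 2) R) ^ n) =
        if i + j = n then (n.choose i : R) else 0 := by
      rw [add_pow, coeff_sum]
      have : ∀ x, ((X 0 : MvPolynomial (Fin 2) R) ^ x * X 1 ^ (n - x) * (n.choose x : MvPolynomial (Fin 2) R)) =
          C (n.choose x : R) * monomial (m2 x (n - x)) 1 := fun x => by rw [map_natCast, ← mon2]; ring
      simp only [this, coeff_C_mul, coeff_monomial, m2_inj, mul_ite, mul_one, mul_zero]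
      split_ifs with h
      · subst h
        rw [sum_eq_single i]
        · simp
        · intro x _ hx; simp [hx]
        · intro h; simp at h
      · exact sum_eq_zero fun x hx => if_neg fun ⟨h1, h2⟩ => h (by rw [mem_range] at hx; omega)
    have e2 : coeff (m2 i j) ((X 0 : MvPolynomial (Fin 2) R) ^ n) = if i = n ∧ j = 0 then 1 else 0 := by
      rw [← mul_one (X 0 ^ n : MvPolynomial (Fin 2) R), ← pow_zero (X 1 : MvPolynomial (Fin 2) R), mon2, coeff_monomial]
      exact if_congr (by rw [m2_inj]; tauto) rfl rfl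
    have e3 : coeff (m2 i j) ((X 1 : MvPolynomial (Fin 2) R) ^ n) = if i = 0 ∧ j = n then 1 else 0 := by
      rw [← one_mul (X 1 ^ n : MvPolynomial (Fin 2) R), ← pow_zero (X 0 : MvPolynomial (Fin 2) R), mon2, coeff_monomial]
      exact if_congr (by rw [m2_inj]; tauto) rfl rfl
    simp only [cob, Polynomial.aeval_monomial, MvPolynomial.algebraMap_eq, coeff_sub, coeff_C_mul, e1, e2, e3,
      Polynomial.coeff_monomial]
    by_cases h : i + j = n
    · subst h
      simp only [if_true]
      have h2 : (i = i + j ∧ j = 0) ↔ j = 0 := by omega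
      have h3 : (i = 0 ∧ j = i + j) ↔ i = 0 := by omega
      simp only [h2, h3]; ring
    · rw [if_neg h, if_neg (by omega), if_neg (by omega), if_neg (Ne.symm h)]; ring

theorem coeff_pw_S (p q i j : ℕ) :
    coeff (m2 i j) (pw q (S p : MvPolynomial (Fin 2) R)) =
      ∑ x ∈ Ioo 0 p, if q * x = i ∧ q * (p - x) = j then ((p.choose x / p : ℕ) : R) else 0 := by
  rw [S, pw, map_sum, coeff_sum]
  refine sum_congr rfl fun x _ => ?_
  simp only [map_mul, map_pow, aeval_C, aeval_X, MvPolynomial.algebraMap_eq, Matrix.cons_val_zero,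
    Matrix.cons_val_one, mul_assoc, coeff_C_mul, ← pow_mul]
  rw [mon2, coeff_monomial, mul_ite, mul_one, mul_zero]
  exact if_congr m2_inj rfl rfl

theorem p_mul_S (p : ℕ) (hp : p.Prime) :
    C (p : ℤ) * (S p : MvPolynomial (Fin 2) ℤ) = (X 0 + X 1) ^ p - X 0 ^ p - X 1 ^ p := by
  have h : range (p + 1) = insert 0 (insert p (Ioo 0 p)) := by
    ext x; simp; omega
  rw [add_pow, h, sum_insert (by simp; exact hp.pos.ne), sum_insert (by simp), S, mul_sum]
  simp only [pow_zero, one_mul, Nat.sub_zero, Nat.choose_zero_right, Nat.cast_one, mul_one, Nat.sub_self,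
    Nat.choose_self]
  rw [show ∀ a b c : MvPolynomial (Fin 2) ℤ, a + (b + c) - b - a = c from fun a b c => by ring]
  refine sum_congr rfl fun x hx => ?_
  rw [mem_Ioo] at hx
  obtain ⟨d, hd⟩ := hp.dvd_choose_self hx.1.ne' hx.2
  rw [hd, Nat.mul_div_cancel_left _ hp.pos, Nat.cast_mul, ← map_natCast (C : ℤ →+* MvPolynomial (Fin 2) ℤ) p,
    ← map_natCast (C : ℤ →+* MvPolynomial (Fin 2) ℤ) d]
  ring

theorem D_S_int (p : ℕ) (hp : p.Prime) : D (S p : MvPolynomial (Fin 2) ℤ) = 0 ∧ swap (S p) = (S p : MvPolynomial (Fin 2) ℤ) := by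
  have hpne : (C (p : ℤ) : MvPolynomial (Fin 3) ℤ) ≠ 0 := by simp [hp.ne_zero]
  have hpne2 : (C (p : ℤ) : MvPolynomial (Fin 2) ℤ) ≠ 0 := by simp [hp.ne_zero]
  have hc : (X 0 + X 1) ^ p - X 0 ^ p - X 1 ^ p = cob (Polynomial.X ^ p : Polynomial ℤ) := by simp [cob]
  refine ⟨mul_left_cancel₀ hpne ?_, mul_left_cancel₀ hpne2 ?_⟩
  · rw [← D_C_mul, p_mul_S p hp, hc, D_cob, mul_zero]
  · have := swap_cob (Polynomial.X ^ p : Polynomial ℤ)
    rw [← hc, ← p_mul_S p hp, swap, map_mul, aeval_C, MvPolynomial.algebraMap_eq] at this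
    exact this

theorem D_S (p : ℕ) (hp : p.Prime) : D (S p : MvPolynomial (Fin 2) R) = 0 ∧ swap (S p) = (S p : MvPolynomial (Fin 2) R) := by
  obtain ⟨h1, h2⟩ := D_S_int p hp
  have hS : MvPolynomial.map (Int.castRingHom R) (S p : MvPolynomial (Fin 2) ℤ) = S p := by
    simp only [S, map_sum, map_mul, map_pow, MvPolynomial.map_X, map_natCast]
  have hmap : ∀ {τ : Type} (f : Fin 2 → MvPolynomial τ ℤ) (F : MvPolynomial (Fin 2) ℤ),
      MvPolynomial.map (Int.castRingHom R) (aeval f F) =
        aeval (fun i => MvPolynomial.map (Int.castRingHom R) (f i)) (MvPolynomial.map (Int.castRingHom R) F) :=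
    fun f F => MvPolynomial.map_bind₁ (Int.castRingHom R) f F
  have hvec : ∀ {τ : Type} (u v : MvPolynomial τ ℤ),
      (fun i => MvPolynomial.map (Int.castRingHom R) (![u, v] i)) =
        ![MvPolynomial.map (Int.castRingHom R) u, MvPolynomial.map (Int.castRingHom R) v] :=
    fun u v => funext fun i => by fin_cases i <;> rfl
  constructor
  · have h := congrArg (MvPolynomial.map (Int.castRingHom R)) h1
    simp only [D, map_zero, map_sub, map_add, hmap, hS, hvec, MvPolynomial.map_X] at h
    simp only [D]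
    exact h
  · have h := congrArg (MvPolynomial.map (Int.castRingHom R)) h2
    simp only [swap, hmap, hS, hvec, MvPolynomial.map_X] at h
    simp only [swap]
    exact h

variable (p : ℕ) [Fact p.Prime] [CharP R p]

theorem D_pw (e : ℕ) (F : MvPolynomial (Fin 2) R) :
    D (pw (p ^ e) F) = aeval (fun i : Fin 3 => (X i : MvPolynomial (Fin 3) R) ^ p ^ e) (D F) := by
  haveI : ExpChar (MvPolynomial (Fin 3) R) p := .prime (Fact.out : p.Prime)
  have key : ∀ f g : Fin 2 → MvPolynomial (Fin 3) R,
      (∀ i, g i = aeval (fun i : Fin 3 => (X i : MvPolynomial (Fin 3) R) ^ p ^ e) (f i)) →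
      (∀ i, g i = f i ^ p ^ e) →
      aeval f (pw (p ^ e) F) = aeval (fun i : Fin 3 => (X i : MvPolynomial (Fin 3) R) ^ p ^ e) (aeval f F) := by
    intro f g hg hg'
    rw [pw, comp_aeval_apply, comp_aeval_apply]
    refine congrArg (fun φ => aeval φ F) (funext fun i => ?_)
    rw [← hg i, hg' i]
    fin_cases i <;> simp
  simp only [D, map_add, map_sub]
  rw [key ![X 0, X 1 + X 2] ![X 0 ^ p ^ e, X 1 ^ p ^ e + X 2 ^ p ^ e] (fun i => by fin_cases i <;> simp)
      (fun i => by fin_cases i <;> simp [add_pow_char_pow]),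
    key ![X 1, X 2] ![X 1 ^ p ^ e, X 2 ^ p ^ e] (fun i => by fin_cases i <;> simp) (fun i => by fin_cases i <;> simp),
    key ![X 0 + X 1, X 2] ![X 0 ^ p ^ e + X 1 ^ p ^ e, X 2 ^ p ^ e] (fun i => by fin_cases i <;> simp)
      (fun i => by fin_cases i <;> simp [add_pow_char_pow]),
    key ![X 0, X 1] ![X 0 ^ p ^ e, X 1 ^ p ^ e] (fun i => by fin_cases i <;> simp) (fun i => by fin_cases i <;> simp)]

theorem swap_pw (q : ℕ) (F : MvPolynomial (Fin 2) R) : swap (pw q F) = pw q (swap F) := by
  rw [swap, pw, pw, swap, comp_aeval_apply, comp_aeval_apply]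
  exact congrArg (fun φ => aeval φ F) (funext fun i => by fin_cases i <;> simp)

theorem choose_pow_cast (m s : ℕ) : ((m.choose (p ^ s) : ℕ) : R) = ((m / p ^ s : ℕ) : R) := by
  rw [CharP.natCast_eq_natCast R p]
  induction s generalizing m with
  | zero => simp [Nat.choose_one_right, Nat.ModEq]
  | succ s ih =>
    have h := Choose.choose_modEq_choose_mod_mul_choose_div_nat (n := m) (k := p ^ (s + 1)) (p := p)
    rw [pow_succ', Nat.mul_mod_right, Nat.choose_zero_right, one_mul,
      Nat.mul_div_cancel_left _ (Fact.out : p.Prime).pos] at h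
    rw [pow_succ', ← Nat.div_div_eq_div_mul]
    exact h.trans (ih _)

theorem unit_cast {d : ℕ} (hd : ¬ p ∣ d) : IsUnit (d : R) := by
  rw [← map_natCast (ZMod.castHom (dvd_refl p) R) d]
  refine IsUnit.map _ (isUnit_iff_ne_zero.2 ?_)
  rwa [Ne, ZMod.natCast_eq_zero_iff]

/-- The exponent used to normalise a cocycle in degree `n`. -/
def piv (n : ℕ) : ℕ :=
  if n = p ^ padicValNat p n then p ^ (padicValNat p n - 1) else p ^ padicValNat p n

theorem choose_piv {n : ℕ} (hn : 1 ≤ n) (h : n ≠ p ^ padicValNat p n) :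
    IsUnit ((n.choose (piv p n) : ℕ) : R) ∧ piv p n < n := by
  have hdvd : p ^ padicValNat p n ∣ n := pow_padicValNat_dvd
  rw [piv, if_neg h, choose_pow_cast p]
  refine ⟨unit_cast p fun h' => ?_, lt_of_le_of_ne (Nat.le_of_dvd hn hdvd) (Ne.symm h)⟩
  apply pow_succ_padicValNat_not_dvd (p := p) (n := n) (by omega)
  rw [pow_succ]
  exact (Nat.mul_dvd_mul_left _ h').trans (Nat.mul_div_cancel' hdvd).dvd

theorem eq_zero_of_piv (n : ℕ) (hn : 2 ≤ n) (a : ℕ → R) (hsym : ∀ i ≤ n, a i = a (n - i))
    (hrel : ∀ i j, 1 ≤ i → 1 ≤ j → i + j < n → a i * ((n - i).choose j : R) = a (i + j) * ((i + j).choose i : R))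
    (hpiv : a (piv p n) = 0) : ∀ i, 1 ≤ i → i < n → a i = 0 := by
  have hp : p.Prime := Fact.out
  have step : ∀ q t, 1 ≤ q → 1 ≤ t → q + t < n → a q = 0 → IsUnit (((n - t).choose q : ℕ) : R) → a t = 0 := by
    intro q t hq ht hlt haq hu
    have e1 := hrel t q ht hq (by omega)
    have e2 := hrel q t hq ht hlt
    rw [haq, zero_mul] at e2
    have hsw : ((q + t).choose q : R) = ((t + q).choose t : R) := by
      rw [add_comm t q, ← Nat.choose_symm_add]
    rw [hsw, add_comm q t] at e2
    rw [← e2] at e1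
    exact hu.mul_left_eq_zero.1 e1
  have symstep : ∀ q t, q + t = n → a q = 0 → a t = 0 := fun q t h hq => by
    rw [hsym t (by omega), show n - t = q by omega, hq]
  obtain ⟨d, hd⟩ : p ^ padicValNat p n ∣ n := pow_padicValNat_dvd
  set v := padicValNat p n
  have hnd : ¬ p ∣ d := fun h => by
    apply pow_succ_padicValNat_not_dvd (p := p) (n := n) (by omega)
    conv_rhs => rw [hd]
    rw [pow_succ]; exact Nat.mul_dvd_mul_left _ h
  have hpow : ∀ s, p ^ s < n → a (p ^ s) = 0 := by
    intro s hs
    have ht : 1 ≤ p ^ s := Nat.one_le_pow _ _ hp.pos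
    have big : ∀ (w d' : ℕ), a (p ^ w) = 0 → p ^ s < p ^ w → p ^ w < n →
        (n - p ^ s) / p ^ w = d' → ¬ p ∣ d' → a (p ^ s) = 0 := by
      intro w d' haw hsw hwn hdiv hnd'
      rcases Nat.lt_trichotomy (p ^ w + p ^ s) n with h | h | h
      · refine step _ _ (Nat.one_le_pow _ _ hp.pos) ht h haw ?_
        rw [choose_pow_cast p, hdiv]; exact unit_cast p hnd'
      · exact symstep _ _ h haw
      · exfalso
        apply hnd'
        rw [← hdiv, Nat.div_eq_of_lt (by omega)]
        exact dvd_zero _
    by_cases hcase : n = p ^ v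
    · have hv : v ≠ 0 := fun h => by rw [h, pow_zero] at hcase; omega
      obtain ⟨e, he⟩ := Nat.exists_eq_succ_of_ne_zero hv
      have hq : a (p ^ e) = 0 := by
        have := hpiv
        rwa [piv, if_pos hcase, show padicValNat p n = v from rfl, he, Nat.succ_sub_one] at this
      rcases eq_or_ne s e with rfl | hse
      · exact hq
      · have hse' : s < e := by
          have : s < v := (Nat.pow_lt_pow_iff_right hp.one_lt).1 (hcase ▸ hs)
          omega
        have hlt : p ^ s < p ^ e := Nat.pow_lt_pow_right hp.one_lt hse'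
        have hpe : p ^ v = p ^ e * p := by rw [he, Nat.succ_eq_add_one, pow_succ]
        refine big e (p - 1) hq hlt ?_ ?_ ?_
        · rw [hcase]; exact Nat.pow_lt_pow_right hp.one_lt (by omega)
        · refine Nat.div_eq_of_lt_le ?_ ?_
          · rw [hcase, hpe, Nat.sub_mul, one_mul, mul_comm p]; omega
          · rw [show p - 1 + 1 = p by have := hp.one_lt; omega, hcase, hpe, mul_comm p]; omega
        · intro h
          have := Nat.le_of_dvd (by have := hp.one_lt; omega) h
          have := hp.one_lt; omega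
    · have hd1 : d ≠ 1 := fun h => hcase (by rw [h, mul_one] at hd; exact hd)
      have hd0 : d ≠ 0 := fun h => hnd (h ▸ dvd_zero p)
      have hq : a (p ^ v) = 0 := by have := hpiv; rwa [piv, if_neg hcase] at this
      have hvn : p ^ v < n := by
        rw [hd]; exact lt_mul_of_one_lt_right (pow_pos hp.pos v) (by omega)
      have above : ∀ w, v < w → p ^ w < n → a (p ^ w) = 0 := by
        intro w hw hwn
        obtain ⟨z, rfl⟩ : ∃ z, w = v + (z + 1) := ⟨w - v - 1, by omega⟩
        rcases Nat.lt_trichotomy (p ^ v + p ^ (v + (z + 1))) n with h | h | h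
        · refine step _ _ (Nat.one_le_pow _ _ hp.pos) (Nat.one_le_pow _ _ hp.pos) h hq ?_
          rw [choose_pow_cast p, pow_add, hd, ← Nat.mul_sub, Nat.mul_div_cancel_left _ (pow_pos hp.pos v)]
          refine unit_cast p fun h' => hnd ?_
          have hle : p ^ (z + 1) ≤ d := by
            rw [hd, pow_add] at hwn
            exact (Nat.lt_of_mul_lt_mul_left hwn).le
          have := Nat.dvd_add h' (dvd_pow_self p (Nat.succ_ne_zero z))
          rwa [Nat.sub_add_cancel hle] at this
        · exact symstep _ _ h hq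
        · exfalso
          rw [hd, pow_add] at hwn
          rw [hd, pow_add] at h
          have h1 := Nat.lt_of_mul_lt_mul_left hwn
          have h2 : d < 1 + p ^ (z + 1) := Nat.lt_of_mul_lt_mul_left (a := p ^ v) (by rw [mul_add, mul_one]; omega)
          omega
      rcases lt_trichotomy s v with hsv | rfl | hsv
      · have hlt : p ^ s < p ^ v := Nat.pow_lt_pow_right hp.one_lt hsv
        by_cases hd' : p ∣ d - 1
        · obtain ⟨z, d', hnd', hdd⟩ := Nat.exists_eq_pow_mul_and_not_dvd (n := d - 1) (by omega) p hp.ne_one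
          have hz : 1 ≤ z := by
            by_contra hz
            rw [show z = 0 by omega, pow_zero, one_mul] at hdd
            exact hnd' (hdd ▸ hd')
          have hd'0 : 1 ≤ d' := Nat.one_le_iff_ne_zero.2 fun h => hnd' (h ▸ dvd_zero p)
          have hn' : n = p ^ v + p ^ (v + z) * d' := by
            rw [hd, pow_add, mul_assoc, ← hdd, ← mul_one_add]
            congr 1; omega
          have hwn : p ^ (v + z) < n := by
            have := Nat.le_mul_of_pos_right (p ^ (v + z)) hd'0
            have := pow_pos hp.pos v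
            omega
          have hvz : p ^ v < p ^ (v + z) := Nat.pow_lt_pow_right hp.one_lt (by omega)
          refine big (v + z) d' (above _ (by omega) hwn) (hlt.trans hvz) hwn ?_ hnd'
          refine Nat.div_eq_of_lt_le ?_ ?_
          · rw [mul_comm d']; omega
          · rw [Nat.add_mul, one_mul, mul_comm d']; omega
        · refine big v (d - 1) hq hlt hvn ?_ hd'
          have e : n = p ^ v + p ^ v * (d - 1) := by
            rw [hd, ← mul_one_add]; congr 1; omega
          refine Nat.div_eq_of_lt_le ?_ ?_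
          · rw [mul_comm (d - 1)]; omega
          · rw [show d - 1 + 1 = d by omega, mul_comm d, ← hd]; omega
      · exact hq
      · exact above s hsv hs
  intro i
  induction i using Nat.strongRecOn with
  | ind i ih =>
    intro hi hin
    obtain ⟨s, m, hm, him⟩ := Nat.exists_eq_pow_mul_and_not_dvd (n := i) (by omega) p hp.ne_one
    rcases eq_or_ne m 1 with rfl | hm1
    · rw [mul_one] at him; rw [him]; exact hpow s (him ▸ hin)
    · have hm0 : m ≠ 0 := fun h => hm (h ▸ dvd_zero p)
      have hlt : p ^ s < i := by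
        rw [him]; exact lt_mul_of_one_lt_right (pow_pos hp.pos s) (by omega)
      have hpos := pow_pos hp.pos s
      have e := hrel (i - p ^ s) (p ^ s) (by omega) hpos (by omega)
      rw [ih _ (by omega) (by omega) (by omega), zero_mul, Nat.sub_add_cancel hlt.le,
        Nat.choose_symm hlt.le, choose_pow_cast p, him, Nat.mul_div_cancel_left _ hpos] at e
      rw [him]
      exact (unit_cast (R := R) p hm).mul_left_eq_zero.1 e.symm

theorem cocycle_iff (F : MvPolynomial (Fin 2) R) :
    (swap F = F ∧ D F = 0) ↔ ∃ (G : Polynomial R) (N : ℕ) (r : ℕ → R),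
      F = cob G + ∑ i ∈ range N, C (r i) * pw (p ^ i) (S p) := by
  classical
  have hp : p.Prime := Fact.out
  have hmodel : ∀ (G : Polynomial R) (N : ℕ) (r : ℕ → R),
      swap (cob G + ∑ i ∈ range N, C (r i) * pw (p ^ i) (S p)) =
        cob G + ∑ i ∈ range N, C (r i) * pw (p ^ i) (S p) ∧
      D (cob G + ∑ i ∈ range N, C (r i) * pw (p ^ i) (S p)) = 0 := by
    intro G N r
    refine ⟨?_, ?_⟩
    · rw [swap, map_add, map_sum]
      congr 1
      · exact swap_cob G
      · refine sum_congr rfl fun i _ => ?_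
        rw [map_mul, aeval_C, MvPolynomial.algebraMap_eq]
        congr 1
        rw [← swap, swap_pw, (D_S p hp).2]
    · rw [D_add, D_cob, zero_add, D_sum]
      refine sum_eq_zero fun i _ => ?_
      rw [D_C_mul, D_pw, (D_S p hp).1, map_zero, mul_zero]
  refine ⟨fun ⟨hs, hD⟩ => ?_, fun ⟨G, N, r, h⟩ => h ▸ hmodel G N r⟩
  set a : ℕ → ℕ → R := fun i j => coeff (m2 i j) F
  set N := F.totalDegree + 2
  have hbound : ∀ i j, N ≤ i + j → a i j = 0 := fun i j hij => by
    refine coeff_eq_zero_of_totalDegree_lt ?_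
    have : ∑ x ∈ (m2 i j).support, m2 i j x = i + j := by
      rw [Finset.sum_subset (Finset.subset_univ _) (fun x _ hx => by simpa using hx), Fin.sum_univ_two]
      simp [m2]
    rw [this]; omega
  let g : ℕ → R := fun n =>
    if n = 0 then -a 0 0
    else if n = p ^ padicValNat p n then 0
    else Ring.inverse ((n.choose (piv p n) : ℕ) : R) * a (piv p n) (n - piv p n)
  let r : ℕ → R := fun e => a (p ^ e) (p ^ (e + 1) - p ^ e)
  refine ⟨∑ n ∈ range N, Polynomial.monomial n (g n), N, r, ?_⟩
  set G := ∑ n ∈ range N, Polynomial.monomial n (g n)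
  set M := cob G + ∑ i ∈ range N, C (r i) * pw (p ^ i) (S p)
  have hG : ∀ n, G.coeff n = if n < N then g n else 0 := fun n => by
    simp only [G, Polynomial.finsetSum_coeff, Polynomial.coeff_monomial, sum_ite_eq', mem_range]
  rw [← sub_eq_zero]
  set Hp := F - M
  have hHs : swap Hp = Hp := by rw [swap_sub, hs, (hmodel G N r).1]
  have hHD : D Hp = 0 := by rw [D_sub, hD, (hmodel G N r).2, sub_zero]
  have hsymm : ∀ i j, coeff (m2 i j) Hp = coeff (m2 j i) Hp := fun i j => by
    rw [← coeff_swap Hp j i, hHs]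
  have hrel : ∀ i j l, coeff (m3 i j l) (D Hp) = 0 := fun i j l => by rw [hHD, coeff_zero]
  simp only [coeff_D] at hrel
  have hS : ∀ e i j, coeff (m2 i j) (pw (p ^ e) (S p : MvPolynomial (Fin 2) R)) ≠ 0 → i + j = p ^ (e + 1) := by
    intro e i j h
    rw [coeff_pw_S] at h
    obtain ⟨x, hx, hx'⟩ := exists_ne_zero_of_sum_ne_zero h
    rw [mem_Ioo] at hx
    obtain ⟨⟨rfl, rfl⟩, -⟩ := (ite_ne_right_iff).1 hx'
    rw [← Nat.mul_add, Nat.add_sub_cancel' hx.2.le, pow_succ]
  have hM : ∀ i j, coeff (m2 i j) M = G.coeff (i + j) * (((i + j).choose i : R) - (if j = 0 then 1 else 0)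
      - (if i = 0 then 1 else 0)) + ∑ e ∈ range N, r e * coeff (m2 i j) (pw (p ^ e) (S p : MvPolynomial (Fin 2) R)) := by
    intro i j
    simp only [M, coeff_add, coeff_sum, coeff_C_mul, coeff_cob]
  refine MvPolynomial.ext _ _ fun m => ?_
  rw [coeff_zero, ← m2_eta m]
  generalize m 0 = i
  generalize m 1 = j
  rcases Nat.eq_zero_or_pos (i + j) with h0 | hpos
  · obtain ⟨rfl, rfl⟩ : i = 0 ∧ j = 0 := by omega
    rw [coeff_sub, hM, sum_eq_zero fun e _ => ?_, hG, if_pos (by omega)]
    · simp [g, a]
    · by_contra h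
      have := hS e 0 0 (right_ne_zero_of_mul h)
      have := pow_pos hp.pos (e + 1)
      omega
  have edge : ∀ l, 1 ≤ l → coeff (m2 0 l) Hp = 0 := fun l hl => by
    have := hrel 0 0 l
    simp [show l ≠ 0 by omega] at this
    exact this
  rcases Nat.eq_zero_or_pos i with rfl | hi
  · exact edge j (by omega)
  rcases Nat.eq_zero_or_pos j with rfl | hj
  · rw [hsymm]; exact edge i (by omega)
  set n := i + j with hn
  have key : coeff (m2 (piv p n) (n - piv p n)) Hp = 0 := by
    rw [coeff_sub, hM, sub_eq_zero]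
    show a (piv p n) (n - piv p n) = _
    rcases le_or_gt N n with hNn | hnN
    · have hpn : piv p n ≤ n := by
        have hdvd : p ^ padicValNat p n ∣ n := pow_padicValNat_dvd
        have := Nat.le_of_dvd (by omega) hdvd
        unfold piv
        split_ifs
        · exact (Nat.pow_le_pow_right hp.pos (Nat.sub_le _ _)).trans this
        · exact this
      rw [Nat.add_sub_cancel' hpn, hG, if_neg (by omega), zero_mul, zero_add, hbound _ _ (by omega)]
      refine (sum_eq_zero fun e _ => ?_).symm
      by_cases h : coeff (m2 (piv p n) (n - piv p n)) (pw (p ^ e) (S p : MvPolynomial (Fin 2) R)) = 0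
      · rw [h, mul_zero]
      · have := hS e _ _ h
        rw [show r e = 0 from hbound _ _ (by
          have := Nat.pow_le_pow_right hp.pos (show e ≤ e + 1 by omega); omega), zero_mul]
    · by_cases hpw : n = p ^ padicValNat p n
      · obtain ⟨e, he⟩ : ∃ e, padicValNat p n = e + 1 := by
          refine ⟨padicValNat p n - 1, ?_⟩
          rcases Nat.eq_zero_or_pos (padicValNat p n) with h | h
          · rw [h, pow_zero] at hpw; omega
          · omega
        have hpiv : piv p n = p ^ e := by rw [piv, if_pos hpw, he, Nat.add_sub_cancel]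
        have hnp : n = p ^ e * p := by rw [hpw, he, pow_succ]
        have hle : p ^ e ≤ n := hnp ▸ Nat.le_mul_of_pos_right _ hp.pos
        rw [hpiv, Nat.add_sub_cancel' hle, hG, if_pos hnN,
          show g n = 0 from (if_neg (by omega : n ≠ 0)).trans (if_pos hpw), zero_mul, zero_add, sum_eq_single e]
        · rw [coeff_pw_S, sum_eq_single 1]
          · rw [if_pos ⟨mul_one _, by rw [hnp, Nat.mul_sub, mul_one]⟩, Nat.choose_one_right,
              Nat.div_self hp.pos, Nat.cast_one, mul_one]
            simp only [r]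
            rw [pow_succ, ← hnp]
          · intro x _ hx
            exact if_neg fun h => hx (Nat.eq_of_mul_eq_mul_left (pow_pos hp.pos e) (h.1.trans (mul_one _).symm))
          · intro h; exact absurd (mem_Ioo.2 ⟨zero_lt_one, hp.one_lt⟩) h
        · intro e' _ hne
          by_cases h : coeff (m2 (p ^ e) (n - p ^ e)) (pw (p ^ e') (S p : MvPolynomial (Fin 2) R)) = 0
          · rw [h, mul_zero]
          · have h' := hS e' _ _ h
            rw [Nat.add_sub_cancel' hle, hnp, ← pow_succ] at h'
            exact absurd (Nat.pow_right_injective hp.two_le h') (by omega)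
        · intro h
          exfalso
          apply h
          rw [mem_range]
          have := (Nat.lt_pow_self (n := e) hp.one_lt)
          omega
      · obtain ⟨hu, hlt⟩ := choose_piv (R := R) p (show 1 ≤ n by omega) hpw
        have hq1 : 1 ≤ piv p n := by unfold piv; split_ifs <;> exact Nat.one_le_pow _ _ hp.pos
        rw [Nat.add_sub_cancel' hlt.le, hG, if_pos hnN, if_neg (by omega), if_neg (by omega), sub_zero, sub_zero,
          sum_eq_zero fun e _ => ?_, add_zero]
        · simp only [g]
          rw [if_neg (by omega : n ≠ 0), if_neg hpw, mul_comm (Ring.inverse _), mul_assoc,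
            Ring.inverse_mul_cancel _ hu, mul_one]
        · by_cases h : coeff (m2 (piv p n) (n - piv p n)) (pw (p ^ e) (S p : MvPolynomial (Fin 2) R)) = 0
          · rw [h, mul_zero]
          · have h' := hS e _ _ h
            rw [Nat.add_sub_cancel' hlt.le] at h'
            refine absurd ?_ hpw
            rw [h', padicValNat.prime_pow]
  have := eq_zero_of_piv p n (by omega) (fun t => coeff (m2 t (n - t)) Hp)
    (fun t ht => by
      show coeff (m2 t (n - t)) Hp = coeff (m2 (n - t) (n - (n - t))) Hp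
      rw [hsymm, Nat.sub_sub_self ht])
    (fun x y hx hy hxy => by
      have e := hrel x y (n - x - y)
      rw [if_neg (by omega), if_neg (by omega), add_zero, sub_zero, sub_eq_zero,
        show y + (n - x - y) = n - x by omega, show n - x - y = n - (x + y) by omega] at e
      exact e)
    key i hi (by omega)
  simpa [hn] using this

end Groth.Agent.Pool36.Cocycle
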