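import Mathlib

/-!
Chains making a weighted trapezoidal sum negative.
-/

set_option autoImplicit false

namespace Groth.Agent.Pool36

open Finset

/-- The summand of the weighted trapezoidal sum between two indices. -/
def seg (e f : ℕ → ℝ) (i j : ℕ) : ℝ := (e j - e i) * (f j + f i)

/-- The weighted trapezoidal sum of the chain skipping the indices strictly between `a` and `b`. -/
noncomputable def skipSum (n : ℕ) (e f : ℕ → ℝ) (a b : ℕ) : ℝ :=
  ∑ i ∈ range a, seg e f i (i + 1) + seg e f a b + ∑ i ∈ Ico b n, seg e f i (i + 1)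

theorem skipSum_self (n : ℕ) (e f : ℕ → ℝ) (a : ℕ) (ha : a < n) :
    skipSum n e f a a = skipSum n e f a (a + 1) := by
  simp only [skipSum, seg, sub_self, zero_mul]
  rw [Finset.sum_eq_sum_Ico_succ_bot ha]; ring

theorem partial_step (e : ℕ → ℝ) (he0 : e 0 = 0) (k : ℕ) (hk : 1 ≤ k) (p : ℕ) :
    ∑ i ∈ range p, seg e (fun i => if i < k then 1 else 0) i (i + 1) =
      if p < k then 2 * e p else e (k - 1) + e k := by
  induction p with
  | zero => simp [show 0 < k from hk, he0]
  | succ p ih =>
    rw [sum_range_succ, ih, seg]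
    rcases lt_trichotomy (p + 1) k with h | h | h
    · simp only [h, show p < k by omega, if_true]; ring
    · subst h
      simp only [lt_add_one, lt_irrefl, if_true, if_false, Nat.add_sub_cancel]; ring
    · simp only [show ¬ p < k by omega, show ¬ p + 1 < k by omega, if_false]; ring

theorem skipSum_step (n : ℕ) (e : ℕ → ℝ) (he0 : e 0 = 0) (a b k : ℕ) (hk : 1 ≤ k) (hkn : k ≤ n)
    (hab : a ≤ b) (hbn : b ≤ n) :
    skipSum n e (fun i => if i < k then 1 else 0) a b =
      if a < k ∧ k ≤ b then e a + e b else e (k - 1) + e k := by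
  have h := Finset.sum_range_add_sum_Ico (fun i => seg e (fun i => if i < k then (1 : ℝ) else 0) i (i + 1)) hbn
  rw [partial_step e he0 k hk, partial_step e he0 k hk] at h
  rw [skipSum, partial_step e he0 k hk]
  simp only [seg] at h ⊢
  rcases lt_or_ge a k with ha | ha <;> rcases lt_or_ge b k with hb | hb <;>
    simp only [ha, hb, not_lt.2, if_true, if_false, show ¬ n < k by omega, and_self, and_true,
      and_false, not_le.2] at h ⊢ <;> linarith

theorem skipSum_one (n : ℕ) (e : ℕ → ℝ) (he0 : e 0 = 0) (a b : ℕ) (hbn : b ≤ n) :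
    skipSum n e (fun _ => 1) a b = 2 * e n := by
  have h : ∀ p, ∑ i ∈ range p, seg e (fun _ => (1 : ℝ)) i (i + 1) = 2 * e p := by
    intro p
    induction p with
    | zero => simp [he0]
    | succ p ih => rw [sum_range_succ, ih, seg]; ring
  have h2 := Finset.sum_range_add_sum_Ico (fun i => seg e (fun _ => (1 : ℝ)) i (i + 1)) hbn
  rw [h, h] at h2
  rw [skipSum, h, seg]
  linarith

theorem skipSum_lin (n : ℕ) (e : ℕ → ℝ) (a b : ℕ) (f g : ℕ → ℝ) (c : ℝ) :
    skipSum n e (fun i => f i + c * g i) a b = skipSum n e f a b + c * skipSum n e g a b := by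
  have h : ∀ i j, seg e (fun i => f i + c * g i) i j = seg e f i j + c * seg e g i j := fun i j => by
    simp only [seg]; ring
  simp only [skipSum, h, sum_add_distrib, ← mul_sum]
  ring

theorem skipSum_steps (n : ℕ) (e : ℕ → ℝ) (a b : ℕ) (δ : ℕ → ℝ) (h : ℕ → ℕ → ℝ) (f : ℕ → ℝ)
    (s : Finset ℕ) :
    skipSum n e (fun i => f i + ∑ k ∈ s, δ k * h k i) a b =
      skipSum n e f a b + ∑ k ∈ s, δ k * skipSum n e (h k) a b := by
  induction s using Finset.induction with
  | empty => simp
  | insert x s hx ih =>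
    simp only [sum_insert hx]
    rw [show (fun i => f i + (δ x * h x i + ∑ k ∈ s, δ k * h k i)) =
      fun i => (f i + ∑ k ∈ s, δ k * h k i) + δ x * h x i from funext fun i => by ring,
      skipSum_lin, ih]
    ring

theorem exists_skip_neg (n : ℕ) (e r : ℕ → ℝ) (he0 : e 0 = 0) (hanti : ∀ i < n, r (i + 1) ≤ r i)
    (hsum : ∑ i ∈ range (n + 1), r i = 0) (hne : ∃ i ≤ n, r i ≠ 0)
    {ι : Type} (I : Finset ι) (μ : ι → ℝ) (lo hi : ι → ℕ)
    (hμ : ∀ x ∈ I, 0 ≤ μ x) (hμ1 : ∑ x ∈ I, μ x = 1) (hI : ∀ x ∈ I, lo x ≤ hi x ∧ hi x ≤ n)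
    (hneg : ∀ k, 1 ≤ k → k ≤ n →
      ((n : ℝ) + 1) * (∑ x ∈ I, μ x * (if lo x < k ∧ k ≤ hi x then e (lo x) + e (hi x) else e (k - 1) + e k))
        < 2 * k * e n) :
    ∃ x ∈ I, skipSum n e r (lo x) (hi x) < 0 := by
  classical
  set δ : ℕ → ℝ := fun k => r (k - 1) - r k
  have hδ : ∀ k ∈ Icc 1 n, 0 ≤ δ k := fun k hk => by
    rw [mem_Icc] at hk
    have := hanti (k - 1) (by omega)
    rw [Nat.sub_add_cancel hk.1] at this
    simp only [δ]; linarith
  have hr : ∀ i, i ≤ n → r i = r n + ∑ k ∈ Icc 1 n, δ k * (if i < k then 1 else 0) := by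
    intro i hi
    induction hi using Nat.decreasingInduction with
    | self => rw [sum_eq_zero fun k hk => by rw [mem_Icc] at hk; rw [if_neg (by omega), mul_zero]]; ring
    | of_succ i hlt ih =>
      have : ∑ k ∈ Icc 1 n, δ k * (if i < k then 1 else 0) =
          δ (i + 1) + ∑ k ∈ Icc 1 n, δ k * (if i + 1 < k then 1 else 0) := by
        rw [← add_sum_erase _ _ (mem_Icc.2 ⟨by omega, hlt⟩),
          ← add_sum_erase (Icc 1 n) (fun k => δ k * (if i + 1 < k then (1 : ℝ) else 0))
            (mem_Icc.2 ⟨by omega, hlt⟩ : i + 1 ∈ Icc 1 n), if_pos (Nat.lt_succ_self i), if_neg (lt_irrefl _),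
          mul_one, mul_zero, zero_add]
        congr 1
        refine sum_congr rfl fun k hk => ?_
        obtain ⟨hk, -⟩ := mem_erase.1 hk
        congr 1
        exact if_congr ⟨fun h => by omega, fun h => by omega⟩ rfl rfl
      rw [this]
      simp only [δ, Nat.add_sub_cancel] at ih ⊢
      linarith
  have hcount : ((n : ℝ) + 1) * r n + ∑ k ∈ Icc 1 n, δ k * k = 0 := by
    rw [← hsum, sum_congr rfl fun i hi => hr i (by rw [mem_range] at hi; omega), sum_add_distrib, sum_const,
      card_range, nsmul_eq_mul, Nat.cast_succ, sum_comm]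
    congr 1
    refine sum_congr rfl fun k hk => ?_
    rw [← mul_sum, sum_boole]
    congr 2
    rw [mem_Icc] at hk
    rw [show (range (n + 1)).filter (fun i => i < k) = range k by ext i; simp; omega, card_range]
  obtain ⟨k₀, hk₀, hδ₀⟩ : ∃ k ∈ Icc 1 n, 0 < δ k := by
    by_contra h
    push Not at h
    have h0 : ∀ k ∈ Icc 1 n, δ k = 0 := fun k hk => le_antisymm (h k hk) (hδ k hk)
    rw [sum_eq_zero fun k hk => by rw [h0 k hk, zero_mul], add_zero] at hcount
    have hrn : r n = 0 := (mul_eq_zero.1 hcount).resolve_left (by positivity)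
    obtain ⟨i, hi, hri⟩ := hne
    exact hri (by rw [hr i hi, hrn, sum_eq_zero fun k hk => by rw [h0 k hk, zero_mul], add_zero])
  have key : ∀ x ∈ I, ((n : ℝ) + 1) * skipSum n e r (lo x) (hi x) =
      ∑ k ∈ Icc 1 n, δ k * (((n : ℝ) + 1) * (if lo x < k ∧ k ≤ hi x then e (lo x) + e (hi x) else e (k - 1) + e k)
        - 2 * k * e n) := by
    intro x hx
    obtain ⟨hab, hbn⟩ := hI x hx
    have e1 : skipSum n e r (lo x) (hi x) = skipSum n e (fun i => (r n * 1) +
        ∑ k ∈ Icc 1 n, δ k * (if i < k then 1 else 0)) (lo x) (hi x) := by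
      have hs : ∀ i j, i ≤ n → j ≤ n → seg e r i j = seg e (fun i => (r n * 1) +
          ∑ k ∈ Icc 1 n, δ k * (if i < k then 1 else 0)) i j := fun i j hi hj => by
        simp only [seg, mul_one]; rw [hr i hi, hr j hj]
      simp only [skipSum]
      congr 1
      · congr 1
        · exact sum_congr rfl fun i hi => by rw [mem_range] at hi; exact hs _ _ (by omega) (by omega)
        · exact hs _ _ (by omega) hbn
      · exact sum_congr rfl fun i hi => by rw [mem_Ico] at hi; exact hs _ _ (by omega) (by omega)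
    have e2 : skipSum n e (fun _ => r n * 1) (lo x) (hi x) = r n * (2 * e n) := by
      have := skipSum_lin n e (lo x) (hi x) (fun _ => 0) (fun _ => 1) (r n)
      rw [skipSum_one n e he0 _ _ hbn, show skipSum n e (fun _ => (0:ℝ)) (lo x) (hi x) = 0 by
        simp [skipSum, seg]] at this
      simpa using this
    rw [e1, skipSum_steps, e2, mul_add, mul_sum]
    have e3 : ((n : ℝ) + 1) * (r n * (2 * e n)) = ∑ k ∈ Icc 1 n, δ k * (-(2 * k * e n)) := by
      rw [show ((n : ℝ) + 1) * (r n * (2 * e n)) = (-∑ k ∈ Icc 1 n, δ k * k) * (2 * e n) by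
        linear_combination (2 * e n) * hcount, neg_mul, sum_mul, ← sum_neg_distrib]
      exact sum_congr rfl fun k _ => by ring
    rw [e3, ← sum_add_distrib]
    refine sum_congr rfl fun k hk => ?_
    rw [mem_Icc] at hk
    rw [skipSum_step n e he0 _ _ k hk.1 hk.2 hab hbn]
    ring
  by_contra hcon
  push Not at hcon
  have hpos : 0 ≤ ∑ x ∈ I, μ x * (((n : ℝ) + 1) * skipSum n e r (lo x) (hi x)) :=
    sum_nonneg fun x hx => mul_nonneg (hμ x hx) (mul_nonneg (by positivity) (hcon x hx))
  rw [sum_congr rfl fun x hx => by rw [key x hx, mul_sum], sum_comm] at hpos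
  refine not_lt.2 hpos ?_
  have hfac : ∀ k ∈ Icc 1 n, (∑ x ∈ I, μ x * (δ k * (((n : ℝ) + 1) *
      (if lo x < k ∧ k ≤ hi x then e (lo x) + e (hi x) else e (k - 1) + e k) - 2 * k * e n))) =
      δ k * (((n : ℝ) + 1) * (∑ x ∈ I, μ x * (if lo x < k ∧ k ≤ hi x then e (lo x) + e (hi x) else e (k - 1) + e k))
        - 2 * k * e n) := by
    intro k _
    rw [show 2 * (k : ℝ) * e n = (∑ x ∈ I, μ x) * (2 * k * e n) by rw [hμ1, one_mul], mul_sum, sum_mul,
      ← sum_sub_distrib, mul_sum]
    exact sum_congr rfl fun x _ => by rw [← sum_mul, hμ1]; ring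
  rw [sum_congr rfl hfac]
  calc _ < ∑ k ∈ Icc 1 n, (0 : ℝ) := sum_lt_sum (fun k hk => by
        rw [mem_Icc] at hk
        exact mul_nonpos_of_nonneg_of_nonpos (hδ k (mem_Icc.2 hk)) (sub_nonpos.2 (hneg k hk.1 hk.2).le))
        ⟨k₀, hk₀, mul_neg_of_pos_of_neg hδ₀ (sub_neg.2 (hneg k₀ (mem_Icc.1 hk₀).1 (mem_Icc.1 hk₀).2))⟩
    _ = 0 := sum_const_zero

theorem exists_skip (n g : ℕ) (hg : 1 ≤ g) (hn : 2 * g ≤ n) (e r : ℕ → ℝ) (he0 : e 0 = 0)
    (hen : e n = (n : ℝ) + g) (hle : ∀ i, i + g ≤ n → e i ≤ i) (hle' : ∀ i, i ≤ n → e i ≤ i + g)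
    (hanti : ∀ i < n, r (i + 1) ≤ r i) (hsum : ∑ i ∈ range (n + 1), r i = 0) (hne : ∃ i ≤ n, r i ≠ 0) :
    ∃ a b, a < b ∧ b ≤ n ∧ skipSum n e r a b < 0 := by
  have hgR : (1 : ℝ) ≤ g := Nat.one_le_cast.2 hg
  have hnR : 2 * (g : ℝ) ≤ n := by exact_mod_cast hn
  by_cases hg1 : g = 1
  · subst hg1
    -- the full chain and the one-step chain
    obtain ⟨x, -, hx⟩ := exists_skip_neg n e r he0 hanti hsum hne (univ : Finset Bool)
      (fun x => if x then 1 / ((n : ℝ) + 1) else 1 - 1 / ((n : ℝ) + 1))
      (fun _ => 0) (fun x => if x then n else 1)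
      (fun x _ => by
        cases x
        · simp only [Bool.false_eq_true, if_false, sub_nonneg]
          rw [div_le_one (by positivity)]; linarith
        · simp only [if_true]; positivity)
      (by simp) (fun x _ => ⟨Nat.zero_le _, by cases x <;> simp; omega⟩) (fun k hk hkn => by
        simp only [Fintype.sum_bool, Bool.false_eq_true, if_true, if_false]
        have hz : e 0 + e n = (n : ℝ) + 1 := by rw [he0, hen]; simp
        have hk1 : (1 : ℝ) ≤ k := Nat.one_le_cast.2 hk
        rw [if_pos ⟨hk, hkn⟩, hz, hen]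
        have hv : (if 0 < k ∧ k ≤ 1 then e 0 + e 1 else e (k - 1) + e k) = e (k - 1) + e k := by
          split_ifs with h
          · obtain rfl : k = 1 := by omega
            rfl
          · rfl
        rw [hv]
        have hn1 : 0 < (n : ℝ) + 1 := by positivity
        field_simp
        rcases hkn.eq_or_lt with rfl | hlt
        · have h1 := hle (k - 1) (by omega)
          rw [Nat.cast_sub hk, Nat.cast_one] at h1
          rw [hen]
          push_cast
          nlinarith
        · have h1 := hle (k - 1) (by omega)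
          have h2 := hle k (by omega)
          rw [Nat.cast_sub hk, Nat.cast_one] at h1
          push_cast
          nlinarith)
    cases x
    · exact ⟨0, 1, zero_lt_one, by omega, by simpa using hx⟩
    · exact ⟨0, n, by omega, le_rfl, by simpa using hx⟩
  · have hg2 : (2 : ℝ) ≤ g := by exact_mod_cast (show 2 ≤ g by omega)
    set A := (n + 1) / 2
    set s : ℝ := ((n : ℝ) + g) / ((n : ℝ) + 1) with hs
    -- `Q t` is the weight of the chains not skipping across `t`
    let Q : ℕ → ℝ := fun w => if n ≤ w then 1 else s * w / ((w : ℝ) + g)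
    have hs1 : 1 < s := by rw [hs, lt_div_iff₀ (by positivity)]; linarith
    have hQmono : ∀ v w : ℕ, v + 2 = w → w ≤ n → Q v ≤ Q w := by
      intro v w hvw hw
      simp only [Q]
      rw [if_neg (by omega : ¬ n ≤ v)]
      split_ifs with h
      · have hv : (v : ℝ) + 2 = n := by exact_mod_cast (show v + 2 = n by omega)
        rw [hs, div_mul_eq_mul_div, div_div, div_le_one (by positivity)]
        nlinarith
      · rw [div_le_div_iff₀ (by positivity) (by positivity)]
        subst hvw
        push_cast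
        nlinarith [mul_pos (lt_trans zero_lt_one hs1) (lt_of_lt_of_le zero_lt_one hgR)]
    have hQ0 : Q 0 = 0 := by simp [Q]; omega
    have hQnn : ∀ w, 0 ≤ Q w := fun w => by
      simp only [Q]; split_ifs
      · exact zero_le_one
      · have : 0 ≤ s := by linarith
        positivity
    -- `G j` for the ladder `w = n - 2 j`
    let G : ℕ → ℝ := fun j => if 2 * j ≤ n then Q (n - 2 * j) else 0
    have hG0 : G 0 = 1 := by simp [G, Q]
    have hGA : G A = 0 := by
      simp only [G]; split_ifs with h
      · rw [show n - 2 * A = 0 by omega]; exact hQ0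
      · rfl
    have hGanti : ∀ j, G (j + 1) ≤ G j := by
      intro j
      simp only [G]
      split_ifs with h1 h2
      · exact hQmono _ _ (by omega) (by omega)
      · omega
      · exact hQnn _
      · exact le_rfl
    obtain ⟨j, hj, hneg⟩ := exists_skip_neg n e r he0 hanti hsum hne (range A)
      (fun j => G j - G (j + 1)) (fun j => j + 1) (fun j => n - j)
      (fun j _ => sub_nonneg.2 (hGanti j))
      (by rw [Finset.sum_range_sub']; rw [hG0, hGA, sub_zero])
      (fun j hj => by rw [mem_range] at hj; exact ⟨by omega, by omega⟩)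
      (fun k hk hkn => by
        have hin : ∀ j ∈ range A, e (j + 1) + e (n - j) ≤ (n : ℝ) + 1 + g := by
          intro j hj
          rw [mem_range] at hj
          have h1 := hle (j + 1) (by omega)
          have h2 := hle' (n - j) (by omega)
          rw [Nat.cast_sub (by omega : j ≤ n)] at h2
          push_cast at h1
          linarith
        -- `t` is the number of chains skipping across `k`
        set t := min A (min (k - 1) (n + 1 - k)) with ht
        have hsplit : ∑ j ∈ range A, (G j - G (j + 1)) *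
            (if j + 1 < k ∧ k ≤ n - j then e (j + 1) + e (n - j) else e (k - 1) + e k) ≤
            (1 - G t) * ((n : ℝ) + 1 + g) + G t * (e (k - 1) + e k) := by
          rw [← Finset.sum_range_add_sum_Ico _ (min_le_left A (min (k - 1) (n + 1 - k))), ← ht]
          refine add_le_add ?_ (le_of_eq ?_)
          · rw [show (1 - G t) = ∑ j ∈ range t, (G j - G (j + 1)) by rw [Finset.sum_range_sub', hG0], sum_mul]
            refine sum_le_sum fun j hj => mul_le_mul_of_nonneg_left ?_ (sub_nonneg.2 (hGanti j))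
            rw [mem_range] at hj
            rw [if_pos (by omega)]
            exact hin j (mem_range.2 (by omega))
          · rw [show G t = ∑ j ∈ Ico t A, (G j - G (j + 1)) by
                rw [Finset.sum_Ico_eq_sub _ (min_le_left _ _), Finset.sum_range_sub', Finset.sum_range_sub',
                  hGA, hG0]; ring, sum_mul]
            refine sum_congr rfl fun j hj => ?_
            rw [mem_Ico] at hj
            rw [if_neg (by omega)]
        refine lt_of_le_of_lt (mul_le_mul_of_nonneg_left hsplit (by positivity)) ?_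
        rw [hen, show (2 : ℝ) * k * ((n : ℝ) + g) = ((n : ℝ) + 1) * (2 * k * s) by rw [hs]; field_simp]
        refine mul_lt_mul_of_pos_left ?_ (by positivity)
        have hk1 : (1 : ℝ) ≤ k := Nat.one_le_cast.2 hk
        rcases Nat.lt_trichotomy (2 * k) (n + 2) with h | h | h
        · -- head
          obtain ⟨w, hw⟩ : ∃ w, 2 * k + w = n + 2 := ⟨n + 2 - 2 * k, by omega⟩
          have hwR : 2 * (k : ℝ) + w = n + 2 := by exact_mod_cast hw
          have htk : t = k - 1 := by omega
          have hGt : G t = Q w := by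
            simp only [G, htk]; rw [if_pos (by omega)]; congr 1; omega
          have hE : e (k - 1) + e k ≤ 2 * (k : ℝ) - 1 := by
            have h1 := hle (k - 1) (by omega)
            have h2 := hle k (by omega)
            rw [Nat.cast_sub hk, Nat.cast_one] at h1
            linarith
          rw [hGt]
          rcases Nat.lt_or_ge w n with hwn | hwn
          · have hq : Q w * ((w : ℝ) + g) = s * w := by
              simp only [Q]; rw [if_neg (by omega)]; field_simp
            have hns : s * ((n : ℝ) + 1) = n + g := by rw [hs]; field_simp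
            nlinarith [hQnn w, mul_le_mul_of_nonneg_left hE (hQnn w)]
          · have hq : Q w = 1 := by simp only [Q]; rw [if_pos hwn]
            rw [hq]; nlinarith
        · -- middle
          have hwR : 2 * (k : ℝ) = n + 2 := by exact_mod_cast h
          have htA : t = A := by omega
          rw [htA, hGA]
          have hns : s * ((n : ℝ) + 1) = n + g := by rw [hs]; field_simp
          nlinarith
        · -- tail
          obtain ⟨w, hw⟩ : ∃ w, 2 * k = n + 2 + w := ⟨2 * k - (n + 2), by omega⟩
          have hwR : 2 * (k : ℝ) = n + 2 + w := by exact_mod_cast hw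
          have htk : t = n + 1 - k := by omega
          have hGt : G t = Q w := by
            simp only [G, htk]; rw [if_pos (by omega)]; congr 1; omega
          have hE : e (k - 1) + e k ≤ 2 * (k : ℝ) - 1 + 2 * g := by
            have h1 := hle' (k - 1) (by omega)
            have h2 := hle' k hkn
            rw [Nat.cast_sub hk, Nat.cast_one] at h1
            linarith
          rw [hGt]
          have hq : Q w * ((w : ℝ) + g) = s * w := by
            simp only [Q]; rw [if_neg (by omega)]; field_simp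
          have hns : s * ((n : ℝ) + 1) = n + g := by rw [hs]; field_simp
          nlinarith [hQnn w, mul_le_mul_of_nonneg_left hE (hQnn w)])
    rw [mem_range] at hj
    rcases (show j + 1 ≤ n - j by omega).eq_or_lt with h | h
    · refine ⟨j + 1, j + 2, by omega, by omega, ?_⟩
      rw [← skipSum_self n e r (j + 1) (by omega)]
      rw [← h] at hneg
      exact hneg
    · exact ⟨j + 1, n - j, h, by omega, hneg⟩

theorem exists_chain (n g : ℕ) (hg : 1 ≤ g) (hn : 2 * g ≤ n)
    (e : Fin (n + 1) → ℕ) (he0 : e 0 = 0) (hen : e (Fin.last n) = n + g)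
    (hle : ∀ i : Fin (n + 1), (i : ℕ) ≤ n - g → e i ≤ (i : ℕ)) (hle' : ∀ i : Fin (n + 1), e i ≤ (i : ℕ) + g)
    (r : Fin (n + 1) → ℝ) (hanti : Antitone r) (hsum : ∑ i, r i = 0) (hr : r ≠ 0) :
    ∃ (μ : ℕ) (c : Fin (μ + 1) → Fin (n + 1)), StrictMono c ∧ c 0 = 0 ∧ c (Fin.last μ) = Fin.last n ∧
      ∑ j : Fin μ, ((e (c j.succ) : ℝ) - (e (c j.castSucc) : ℝ)) * (r (c j.succ) + r (c j.castSucc)) < 0 := by
  let eN : ℕ → ℝ := fun i => if h : i < n + 1 then (e ⟨i, h⟩ : ℝ) else 0
  let rN : ℕ → ℝ := fun i => if h : i < n + 1 then r ⟨i, h⟩ else 0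
  obtain ⟨a, b, hab, hbn, hneg⟩ := exists_skip n g hg hn eN rN
    (by simp [eN, he0])
    (by
      simp only [eN]; rw [dif_pos (Nat.lt_succ_self n)]
      exact_mod_cast hen)
    (fun i hi => by
      simp only [eN]; rw [dif_pos (by omega)]
      exact_mod_cast hle ⟨i, _⟩ (show i ≤ n - g by omega))
    (fun i hi => by
      simp only [eN]; rw [dif_pos (by omega)]
      exact_mod_cast hle' ⟨i, _⟩)
    (fun i hi => by
      simp only [rN]; rw [dif_pos (by omega), dif_pos (by omega)]
      exact hanti (Fin.mk_le_mk.2 (Nat.le_succ i)))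
    (by
      rw [← Fin.sum_univ_eq_sum_range, ← hsum]
      exact sum_congr rfl fun i _ => by simp only [rN]; rw [dif_pos i.2])
    (by
      obtain ⟨i, hi⟩ := Function.ne_iff.1 hr
      refine ⟨(i : ℕ), Nat.le_of_lt_succ i.2, ?_⟩
      show rN i ≠ 0
      simp only [rN]; rw [dif_pos i.2]; exact hi)
  let cN : ℕ → ℕ := fun i => if i ≤ a then i else i + (b - a - 1)
  have hc : ∀ i : Fin (a + 1 + (n - b) + 1), cN i < n + 1 := fun i => by
    simp only [cN]; split_ifs <;> omega
  refine ⟨a + 1 + (n - b), fun i => ⟨cN i, hc i⟩, ?_, ?_, ?_, ?_⟩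
  · intro i i' h
    show cN i < cN i'
    have : (i : ℕ) < i' := h
    simp only [cN]; split_ifs <;> omega
  · ext; simp [cN]
  · ext
    simp only [cN, Fin.val_last]
    split_ifs <;> omega
  · refine lt_of_eq_of_lt ?_ hneg
    have hval : ∀ (j : Fin (a + 1 + (n - b) + 1)),
        ((e ⟨cN j, hc j⟩ : ℝ) = eN (cN j)) ∧ r ⟨cN j, hc j⟩ = rN (cN j) := fun j =>
      ⟨by simp only [eN]; rw [dif_pos (hc j)], by simp only [rN]; rw [dif_pos (hc j)]⟩
    refine Eq.trans (Fintype.sum_congr _
      (fun j : Fin (a + 1 + (n - b)) =>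
        (eN (cN ((j : ℕ) + 1)) - eN (cN j)) * (rN (cN ((j : ℕ) + 1)) + rN (cN j))) fun j => ?_) ?_
    · rw [(hval j.succ).1, (hval j.succ).2, (hval j.castSucc).1, (hval j.castSucc).2, Fin.val_succ,
        Fin.val_castSucc]
    rw [Fin.sum_univ_eq_sum_range (fun j => (eN (cN (j + 1)) - eN (cN j)) * (rN (cN (j + 1)) + rN (cN j))),
      Finset.sum_range_add, Finset.sum_range_succ, skipSum]
    congr 1
    · congr 1
      · refine sum_congr rfl fun i hi => ?_
        rw [mem_range] at hi
        simp [cN, seg, show i ≤ a by omega, show i + 1 ≤ a by omega]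
      · simp [cN, seg, show a + 1 + (b - a - 1) = b by omega]
    · rw [Finset.sum_Ico_eq_sum_range]
      refine sum_congr rfl fun i _ => ?_
      simp only [cN, seg]
      rw [if_neg (by omega), if_neg (by omega), show a + 1 + i + (b - a - 1) = b + i by omega,
        show a + 1 + i + 1 + (b - a - 1) = b + i + 1 by omega]

end Groth.Agent.Pool36
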