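import Mathlib

/-!
Quadrics in the square of an ideal of colength at least two in the plane are double lines.
-/

set_option autoImplicit false
universe u v

namespace Groth.Agent.Pool36

open MvPolynomial

variable {κ : Type u} [Field κ]

/-- An affine linear form in two variables. -/
noncomputable def lin (w : Fin 3 → κ) : MvPolynomial (Fin 2) κ := C (w 0) + C (w 1) * X 0 + C (w 2) * X 1

/-- A quadric in two variables. -/
noncomputable def quad (a b c d e f : κ) : MvPolynomial (Fin 2) κ :=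
  C a + C b * X 0 + C c * X 1 + C d * X 0 ^ 2 + C e * X 0 * X 1 + C f * X 1 ^ 2

variable {I : Ideal (MvPolynomial (Fin 2) κ)}
  (hI : ¬ (Module.Finite κ (MvPolynomial (Fin 2) κ ⧸ I) ∧ Module.finrank κ (MvPolynomial (Fin 2) κ ⧸ I) ≤ 1))
include hI

theorem const_mem {t : κ} (ht : C t ∈ I) : t = 0 := by
  by_contra h
  refine hI ?_
  have : I = ⊤ := Ideal.eq_top_of_isUnit_mem _ ht ((Ne.isUnit h).map C)
  subst this
  haveI := Ideal.Quotient.subsingleton_iff.2 (rfl : (⊤ : Ideal (MvPolynomial (Fin 2) κ)) = ⊤)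
  exact ⟨inferInstance, by rw [Module.finrank_zero_of_subsingleton]; exact zero_le_one⟩

theorem forms_prop {v w : Fin 3 → κ} (hv : lin v ∈ I) (hw : lin w ∈ I) (r s : Fin 3) :
    v r * w s = v s * w r := by
  have comb : ∀ p q : κ, lin (p • v + q • w) ∈ I := fun p q => by
    rw [show lin (p • v + q • w) = C p * lin v + C q * lin w by simp [lin]; ring]
    exact add_mem (I.mul_mem_left _ hv) (I.mul_mem_left _ hw)
  have hD : v 1 * w 2 = v 2 * w 1 := by
    by_contra hne
    set D := v 1 * w 2 - v 2 * w 1 with hDdef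
    have hD0 : D ≠ 0 := sub_ne_zero.2 hne
    refine hI ?_
    have hX0 : ∃ t : κ, X 0 - C t ∈ I := by
      refine ⟨-((w 2 * v 0 - v 2 * w 0) / D), ?_⟩
      have := I.mul_mem_left (C D⁻¹) (comb (w 2) (-v 2))
      convert this using 1
      simp only [lin, Pi.add_apply, Pi.smul_apply, smul_eq_mul]
      rw [show w 2 * v 2 + -v 2 * w 2 = 0 by ring, show w 2 * v 1 + -v 2 * w 1 = D by rw [hDdef]; ring, map_zero,
        zero_mul, add_zero, mul_add, ← mul_assoc, ← map_mul, ← map_mul, inv_mul_cancel₀ hD0, map_one, one_mul,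
        div_eq_inv_mul, map_neg, neg_mul, ← sub_eq_add_neg (w 2 * v 0)]
      ring
    have hX1 : ∃ t : κ, X 1 - C t ∈ I := by
      refine ⟨-((v 1 * w 0 - w 1 * v 0) / D), ?_⟩
      have := I.mul_mem_left (C D⁻¹) (comb (-w 1) (v 1))
      convert this using 1
      simp only [lin, Pi.add_apply, Pi.smul_apply, smul_eq_mul]
      rw [show -w 1 * v 1 + v 1 * w 1 = 0 by ring, show -w 1 * v 2 + v 1 * w 2 = D by rw [hDdef]; ring, map_zero,
        zero_mul, add_zero, mul_add, ← mul_assoc, ← map_mul, ← map_mul, inv_mul_cancel₀ hD0, map_one, one_mul,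
        div_eq_inv_mul, map_neg, neg_mul, neg_add_eq_sub (w 1 * v 0)]
      ring
    have hsurj : Function.Surjective (algebraMap κ (MvPolynomial (Fin 2) κ ⧸ I)) := by
      intro z
      obtain ⟨z, rfl⟩ := Ideal.Quotient.mk_surjective z
      obtain ⟨t0, h0⟩ := hX0
      obtain ⟨t1, h1⟩ := hX1
      refine ⟨eval ![t0, t1] z, ?_⟩
      have hcomm : (Ideal.Quotient.mk I).comp (C.comp (eval ![t0, t1])) = Ideal.Quotient.mk I := by
        refine MvPolynomial.ringHom_ext (fun r => by simp) fun i => ?_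
        fin_cases i
        · simpa using (Ideal.Quotient.eq.2 h0).symm
        · simpa using (Ideal.Quotient.eq.2 h1).symm
      exact RingHom.congr_fun hcomm z
    exact ⟨Module.Finite.of_surjective (Algebra.linearMap κ (MvPolynomial (Fin 2) κ ⧸ I)) hsurj,
      (LinearMap.finrank_le_finrank_of_surjective (f := Algebra.linearMap κ (MvPolynomial (Fin 2) κ ⧸ I)) hsurj).trans
        (Module.finrank_self κ).le⟩
  have h1 : v 0 * w 1 = v 1 * w 0 := by
    have := comb (w 1) (-v 1)
    simp only [lin, Pi.add_apply, Pi.smul_apply, smul_eq_mul] at this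
    rw [show w 1 * v 1 + -v 1 * w 1 = 0 by ring,
      show w 1 * v 2 + -v 1 * w 2 = 0 by linear_combination -hD, map_zero, zero_mul, add_zero, zero_mul,
      add_zero] at this
    linear_combination const_mem hI this
  have h2 : v 0 * w 2 = v 2 * w 0 := by
    have := comb (w 2) (-v 2)
    simp only [lin, Pi.add_apply, Pi.smul_apply, smul_eq_mul] at this
    rw [show w 2 * v 2 + -v 2 * w 2 = 0 by ring,
      show w 2 * v 1 + -v 2 * w 1 = 0 by linear_combination hD, map_zero, zero_mul, add_zero, zero_mul,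
      add_zero] at this
    linear_combination const_mem hI this
  fin_cases r <;> fin_cases s <;> first | rfl | exact h1 | exact h2 | exact hD | exact h1.symm | exact h2.symm |
    exact hD.symm

omit hI in
theorem pderiv_mem_of_sq {g : MvPolynomial (Fin 2) κ} (hg : g ∈ I ^ 2) (i : Fin 2) : pderiv i g ∈ I := by
  rw [sq] at hg
  refine Submodule.mul_induction_on hg (fun p hp q hq => ?_) (fun p q hp hq => by rw [map_add]; exact add_mem hp hq)
  rw [pderiv_mul]
  exact add_mem (I.mul_mem_left _ hq) (I.mul_mem_right _ hp)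

omit hI in
theorem grad (a b c d e f : κ) :
    pderiv 0 (quad a b c d e f) = lin ![b, 2 * d, e] ∧ pderiv 1 (quad a b c d e f) = lin ![c, e, 2 * f] := by
  constructor <;> simp [quad, lin, pderiv_X, map_ofNat] <;> ring

theorem conic_of_two_ne_zero (h2 : (2 : κ) ≠ 0) (a b c d e f : κ) (hmem : quad a b c d e f ∈ I ^ 2) :
    ∃ (j : κ) (w : Fin 3 → κ), quad a b c d e f = C j * lin w ^ 2 := by
  have hv : lin ![b, 2 * d, e] ∈ I := (grad a b c d e f).1 ▸ pderiv_mem_of_sq hmem 0
  have hw : lin ![c, e, 2 * f] ∈ I := (grad a b c d e f).2 ▸ pderiv_mem_of_sq hmem 1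
  have hP : quad a b c d e f ∈ I := (Ideal.pow_le_self (by norm_num)) hmem
  have k12 := forms_prop hI hv hw 1 2
  have k01 := forms_prop hI hv hw 0 1
  have k02 := forms_prop hI hv hw 0 2
  simp at k12 k01 k02
  by_cases hd : d = 0
  · subst hd
    have he : e = 0 := by simpa using k12.symm
    subst he
    have hbf : b * (2 * f) = 0 := by simpa using k02
    by_cases hf : f = 0
    · subst hf
      have hb : b = 0 := by
        refine const_mem hI ?_
        simpa [lin] using hv
      have hc : c = 0 := by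
        refine const_mem hI ?_
        simpa [lin] using hw
      subst hb hc
      have ha : a = 0 := const_mem hI (by simpa [quad] using hP)
      subst ha
      exact ⟨0, 0, by simp [quad]⟩
    · have hb : b = 0 := (mul_eq_zero.1 hbf).resolve_right (mul_ne_zero h2 hf)
      subst hb
      set j := (4 * f)⁻¹ with hj
      have hj1 : 4 * f * j = 1 := mul_inv_cancel₀ (mul_ne_zero (by
        rw [show (4 : κ) = 2 * 2 by norm_num]; exact mul_ne_zero h2 h2) hf)
      have hid : quad a 0 c 0 0 f - C j * lin ![c, 0, 2 * f] ^ 2 = C (a - j * c ^ 2) := by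
        have h1 := congrArg (C : κ → MvPolynomial (Fin 2) κ) hj1
        simp only [map_mul, map_one, map_ofNat] at h1
        simp [quad, lin, map_ofNat]
        linear_combination (-(C c * X 1) - C f * X 1 ^ 2) * h1
      have h0 : a - j * c ^ 2 = 0 := const_mem hI (hid ▸ sub_mem hP (I.mul_mem_left _ (by
        rw [sq]; exact I.mul_mem_left _ hw)))
      exact ⟨j, ![c, 0, 2 * f], by rw [h0, map_zero, sub_eq_zero] at hid; exact hid⟩
  · set j := (4 * d)⁻¹ with hj
    have hj1 : 4 * d * j = 1 := mul_inv_cancel₀ (mul_ne_zero (by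
      rw [show (4 : κ) = 2 * 2 by norm_num]; exact mul_ne_zero h2 h2) hd)
    have hid : quad a b c d e f - C j * lin ![b, 2 * d, e] ^ 2 = C (a - j * b ^ 2) := by
      have h1 := congrArg (C : κ → MvPolynomial (Fin 2) κ) hj1
      have h2 := congrArg (C : κ → MvPolynomial (Fin 2) κ) k12
      have h3 := congrArg (C : κ → MvPolynomial (Fin 2) κ) k01
      simp only [map_mul, map_one, map_ofNat] at h1 h2 h3
      simp [quad, lin, map_ofNat]
      linear_combination (-(C b * X 0) - C d * X 0 ^ 2 - C c * X 1 - C e * X 0 * X 1 - C f * X 1 ^ 2) * h1 +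
        (C j * X 1 ^ 2) * h2 + (-2 * C j * X 1) * h3
    have h0 : a - j * b ^ 2 = 0 := const_mem hI (hid ▸ sub_mem hP (I.mul_mem_left _ (by
      rw [sq]; exact I.mul_mem_left _ hv)))
    exact ⟨j, ![b, 2 * d, e], by rw [h0, map_zero, sub_eq_zero] at hid; exact hid⟩

omit hI in
theorem dvd_sub_of_gens {B : Type*} [CommRing B] (π : MvPolynomial (Fin 2) κ →+* B)
    (σ : B →+* MvPolynomial (Fin 2) κ) {l : MvPolynomial (Fin 2) κ}
    (hC : ∀ r, l ∣ C r - σ (π (C r))) (hX : ∀ i, l ∣ X i - σ (π (X i))) (z : MvPolynomial (Fin 2) κ) :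
    l ∣ z - σ (π z) := by
  have h : Ideal.Quotient.mk (Ideal.span {l}) = (Ideal.Quotient.mk (Ideal.span {l})).comp (σ.comp π) :=
    MvPolynomial.ringHom_ext (fun r => Ideal.Quotient.eq.2 (Ideal.mem_span_singleton.2 (hC r)))
      fun i => Ideal.Quotient.eq.2 (Ideal.mem_span_singleton.2 (hX i))
  exact Ideal.mem_span_singleton.1 (Ideal.Quotient.eq.1 (RingHom.congr_fun h z))

omit hI in
theorem mem_of_sq_mem {A B : Type*} [CommRing A] [IsDomain A] [CommRing B] [IsDomain B]
    [IsPrincipalIdealRing B] (π : A →+* B) (σ : B →+* A) {l : A} (hl0 : l ≠ 0) (hl : π l = 0)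
    (hs : Function.Surjective π) (hσ : ∀ z, l ∣ z - σ (π z)) {J : Ideal A} (h : l ^ 2 ∈ J ^ 2) : l ∈ J := by
  have hπσ : Function.Surjective π → ∃ f ∈ J, ∀ z ∈ J, π f ∣ π z := by
    intro hs
    obtain ⟨g, hg⟩ := IsPrincipalIdealRing.principal (J.map π)
    obtain ⟨f, hf, hfg⟩ := (Ideal.mem_map_iff_of_surjective π hs).1 (hg ▸ Submodule.mem_span_singleton_self g)
    refine ⟨f, hf, fun z hz => ?_⟩
    have := Ideal.mem_map_of_mem π hz
    rw [hg] at this
    obtain ⟨t, ht⟩ := Submodule.mem_span_singleton.1 this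
    exact ⟨t, by rw [hfg, ← ht, smul_eq_mul, mul_comm]⟩
  have key : ∀ z, π z = 0 → ∃ z', z = l * z' := fun z hz => by
    have := hσ z
    rwa [hz, map_zero, sub_zero] at this
  obtain ⟨f₀, hf₀, hdiv⟩ := hπσ hs
  obtain ⟨f, hf, hdivf, hfz⟩ : ∃ f ∈ J, (∀ z ∈ J, π f ∣ π z) ∧ (π f = 0 → f = 0) := by
    by_cases h0 : π f₀ = 0
    · exact ⟨0, J.zero_mem, fun z hz => by rw [map_zero, ← h0]; exact hdiv z hz, fun _ => rfl⟩
    · exact ⟨f₀, hf₀, hdiv, fun h => absurd h h0⟩
  have dec : ∀ z ∈ J, ∃ r κ', z = r * f + l * κ' ∧ l * κ' ∈ J := by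
    intro z hz
    obtain ⟨t, ht⟩ := hdivf z hz
    obtain ⟨κ', hκ⟩ := key (z - σ t * f) (by
      rw [map_sub, map_mul, ht]
      have hστ : π (σ t) = t := by
        obtain ⟨t', rfl⟩ := hs t
        obtain ⟨u, hu⟩ := hσ t'
        have := congrArg π hu
        rw [map_sub, map_mul, hl, zero_mul, sub_eq_zero] at this
        exact this.symm
      rw [hστ]; ring)
    exact ⟨σ t, κ', by rw [← hκ]; ring, by rw [← hκ]; exact J.sub_mem hz (J.mul_mem_left _ hf)⟩
  obtain ⟨α, β, γ, hβ, hγ, heq⟩ : ∃ α β γ, l * β ∈ J ∧ l * γ ∈ J ∧ l ^ 2 = α * f ^ 2 + l * f * β + l ^ 2 * γ := by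
    suffices hall : ∀ t ∈ J * J, ∃ α β γ, l * β ∈ J ∧ l * γ ∈ J ∧ t = α * f ^ 2 + l * f * β + l ^ 2 * γ from
      hall _ (by rw [← sq J]; exact h)
    intro t ht
    refine Submodule.mul_induction_on ht (fun z hz z' hz' => ?_) (fun z z' hz hz' => ?_)
    · obtain ⟨r, k1, rfl, h1⟩ := dec z hz
      obtain ⟨r', k2, rfl, h2⟩ := dec z' hz'
      exact ⟨r * r', r * k2 + r' * k1, k1 * k2,
        by rw [mul_add, mul_left_comm l r, mul_left_comm l r']; exact J.add_mem (J.mul_mem_left _ h2) (J.mul_mem_left _ h1),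
        by rw [← mul_assoc]; exact J.mul_mem_right _ h1, by ring⟩
    · obtain ⟨a1, b1, c1, x1, y1, rfl⟩ := hz
      obtain ⟨a2, b2, c2, x2, y2, rfl⟩ := hz'
      exact ⟨a1 + a2, b1 + b2, c1 + c2, by rw [mul_add]; exact J.add_mem x1 x2,
        by rw [mul_add]; exact J.add_mem y1 y2, by ring⟩
  obtain ⟨α', hα'⟩ : ∃ α', α * f ^ 2 = l * α' * f ^ 2 := by
    by_cases h0 : π f = 0
    · exact ⟨0, by rw [hfz h0]; ring⟩
    · have := congrArg π heq
      simp only [map_add, map_mul, map_pow, hl] at this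
      have hz : π α = 0 := by
        have h' : π α * π f ^ 2 = 0 := by linear_combination -this
        exact (mul_eq_zero.1 h').resolve_right (pow_ne_zero 2 h0)
      obtain ⟨α', rfl⟩ := key α hz
      exact ⟨α', rfl⟩
  have e1 : l = α' * f ^ 2 + f * β + l * γ := mul_left_cancel₀ hl0 (by linear_combination heq + hα')
  obtain ⟨β', hβ'⟩ : ∃ β', f * (α' * f + β) = f * (l * β') := by
    by_cases h0 : π f = 0
    · exact ⟨0, by rw [hfz h0]; ring⟩
    · have := congrArg π e1
      simp only [map_add, map_mul, map_pow, hl] at this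
      have hz : π (α' * f + β) = 0 := by
        have h' : π f * π (α' * f + β) = 0 := by simp only [map_add, map_mul]; linear_combination -this
        exact (mul_eq_zero.1 h').resolve_left h0
      obtain ⟨β', hb⟩ := key _ hz
      exact ⟨β', by rw [hb]⟩
  have e2 : (1 : A) = f * β' + γ := mul_left_cancel₀ hl0 (by linear_combination e1 + hβ')
  rw [← mul_one l, e2, mul_add, ← mul_assoc]
  exact J.add_mem (J.mul_mem_right _ (J.mul_mem_left _ hf)) hγ

omit hI in
theorem descend {L : Type v} [Field L] [Algebra κ L] {z : MvPolynomial (Fin 2) L}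
    (hz : z ∈ I.map (MvPolynomial.map (algebraMap κ L))) :
    ∀ φ : L →ₗ[κ] κ, ∃ y ∈ I, ∀ m, coeff m y = φ (coeff m z) := by
  induction hz using Submodule.span_induction with
  | mem x hx =>
    obtain ⟨i, hi, rfl⟩ := hx
    intro φ
    refine ⟨C (φ 1) * i, I.mul_mem_left _ hi, fun m => ?_⟩
    rw [coeff_C_mul, coeff_map, Algebra.algebraMap_eq_smul_one, map_smul, smul_eq_mul, mul_comm]
  | zero => exact fun φ => ⟨0, I.zero_mem, fun m => by simp⟩
  | add x y _ _ hx hy =>
    intro φ
    obtain ⟨x', hx', hx''⟩ := hx φ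
    obtain ⟨y', hy', hy''⟩ := hy φ
    exact ⟨x' + y', I.add_mem hx' hy', fun m => by rw [coeff_add, coeff_add, map_add, hx'', hy'']⟩
  | smul r x _ hx =>
    intro φ
    rw [smul_eq_mul]
    induction r using MvPolynomial.induction_on' generalizing φ with
    | monomial n t =>
      obtain ⟨x', hx', hx''⟩ := hx (φ ∘ₗ LinearMap.mulLeft κ t)
      refine ⟨monomial n 1 * x', I.mul_mem_left _ hx', fun m => ?_⟩
      rw [coeff_monomial_mul', coeff_monomial_mul']
      split_ifs
      · rw [one_mul, hx'']; rfl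
      · rw [map_zero]
    | add p q hp hq =>
      obtain ⟨p', hp', hp''⟩ := hp φ
      obtain ⟨q', hq', hq''⟩ := hq φ
      exact ⟨p' + q', I.add_mem hp' hq', fun m => by rw [add_mul, coeff_add, coeff_add, map_add, hp'', hq'']⟩

theorem conic_of_two_eq_zero (h2 : (2 : κ) = 0) (a b c d e f : κ) (hmem : quad a b c d e f ∈ I ^ 2) :
    ∃ (j : κ) (w : Fin 3 → κ), quad a b c d e f = C j * lin w ^ 2 := by
  have hv : lin ![b, 2 * d, e] ∈ I := (grad a b c d e f).1 ▸ pderiv_mem_of_sq hmem 0
  have hw : lin ![c, e, 2 * f] ∈ I := (grad a b c d e f).2 ▸ pderiv_mem_of_sq hmem 1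
  have k12 := forms_prop hI hv hw 1 2
  simp [h2] at k12
  subst k12
  have hb : b = 0 := const_mem hI (by simpa [lin, h2] using hv)
  have hc : c = 0 := const_mem hI (by simpa [lin, h2] using hw)
  subst hb hc
  by_cases hdf : d = 0 ∧ f = 0
  · obtain ⟨rfl, rfl⟩ := hdf
    exact ⟨a, ![1, 0, 0], by simp [quad, lin]⟩
  let L := AlgebraicClosure κ
  obtain ⟨α, hα⟩ := IsAlgClosed.exists_pow_nat_eq (algebraMap κ L a) two_pos
  obtain ⟨β, hβ⟩ := IsAlgClosed.exists_pow_nat_eq (algebraMap κ L d) two_pos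
  obtain ⟨γ, hγ⟩ := IsAlgClosed.exists_pow_nat_eq (algebraMap κ L f) two_pos
  set l := lin (κ := L) ![α, β, γ] with hldef
  have h2L : (2 : L) = 0 := by rw [← map_ofNat (algebraMap κ L) 2, h2, map_zero]
  have h2P : (2 : MvPolynomial (Fin 2) L) = 0 := by rw [← map_ofNat (C : L →+* MvPolynomial (Fin 2) L) 2, h2L, map_zero]
  have hsq : MvPolynomial.map (algebraMap κ L) (quad a 0 0 d 0 f) = l ^ 2 := by
    simp [quad, hldef, lin, ← hα, ← hβ, ← hγ, map_pow]
    linear_combination (-(C α * (C β * X 0)) - C α * (C γ * X 1) - C β * X 0 * (C γ * X 1)) * h2P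
  set J := I.map (MvPolynomial.map (algebraMap κ L))
  have hl2 : l ^ 2 ∈ J ^ 2 := by
    rw [← hsq, ← Ideal.map_pow]
    exact Ideal.mem_map_of_mem _ hmem
  have hlJ : l ∈ J := by
    by_cases hb0 : β = 0
    · have hg0 : γ ≠ 0 := by
        rintro rfl
        subst hb0
        exact hdf ⟨(algebraMap κ L).injective (by rw [← hβ, map_zero]; simp),
          (algebraMap κ L).injective (by rw [← hγ, map_zero]; simp)⟩
      refine mem_of_sq_mem (eval₂Hom Polynomial.C ![Polynomial.X, Polynomial.C (-α / γ)])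
        (Polynomial.eval₂RingHom C (X 0)) ?_ ?_ (fun q => ⟨Polynomial.eval₂ C (X 0) q, ?_⟩) ?_ hl2
      · intro h
        have := congrArg (coeff (Finsupp.single 1 1)) h
        rw [hldef] at this
        simp [lin, coeff_X, Finsupp.single_eq_single_iff, Finsupp.single_eq_zero, eq_comm] at this
        exact hg0 this
      · simp [hldef, lin, hb0, ← Polynomial.C_mul, mul_div_cancel₀ _ hg0]
      · induction q using Polynomial.induction_on' with
        | add p q hp hq => rw [Polynomial.eval₂_add, map_add, hp, hq]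
        | monomial m t => simp [← Polynomial.C_mul_X_pow_eq_monomial]
      · refine dvd_sub_of_gens _ _ (fun r => by simp) fun i => ?_
        fin_cases i
        · simp
        · refine ⟨C γ⁻¹, ?_⟩
          simp [hldef, lin, hb0]
          rw [show (-α / γ : L) = -(α * γ⁻¹) by rw [div_eq_mul_inv, neg_mul], map_neg, map_mul]
          have : C γ * C γ⁻¹ = (1 : MvPolynomial (Fin 2) L) := by rw [← map_mul, mul_inv_cancel₀ hg0, map_one]
          linear_combination (-(X 1 : MvPolynomial (Fin 2) L)) * this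
    · refine mem_of_sq_mem (eval₂Hom Polynomial.C ![Polynomial.C (-α / β) + Polynomial.C (-γ / β) * Polynomial.X, Polynomial.X])
        (Polynomial.eval₂RingHom C (X 1)) ?_ ?_ (fun q => ⟨Polynomial.eval₂ C (X 1) q, ?_⟩) ?_ hl2
      · intro h
        have := congrArg (coeff (Finsupp.single 0 1)) h
        rw [hldef] at this
        simp [lin, coeff_X, Finsupp.single_eq_single_iff, Finsupp.single_eq_zero, eq_comm] at this
        exact hb0 this
      · simp [hldef, lin]
        rw [mul_add, ← mul_assoc, ← Polynomial.C_mul, ← Polynomial.C_mul, mul_div_cancel₀ _ hb0,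
          mul_div_cancel₀ _ hb0, Polynomial.C_neg, Polynomial.C_neg]
        ring
      · induction q using Polynomial.induction_on' with
        | add p q hp hq => rw [Polynomial.eval₂_add, map_add, hp, hq]
        | monomial m t => simp [← Polynomial.C_mul_X_pow_eq_monomial]
      · refine dvd_sub_of_gens _ _ (fun r => by simp) fun i => ?_
        fin_cases i
        · refine ⟨C β⁻¹, ?_⟩
          simp [hldef, lin]
          rw [show (-α / β : L) = -(α * β⁻¹) by rw [div_eq_mul_inv, neg_mul],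
            show (-γ / β : L) = -(γ * β⁻¹) by rw [div_eq_mul_inv, neg_mul], map_neg, map_neg, map_mul, map_mul]
          have : C β * C β⁻¹ = (1 : MvPolynomial (Fin 2) L) := by rw [← map_mul, mul_inv_cancel₀ hb0, map_one]
          linear_combination (-(X 0 : MvPolynomial (Fin 2) L)) * this
        · simp
  have hφ : ∀ φ : L →ₗ[κ] κ, lin (fun i => φ (![α, β, γ] i)) ∈ I := by
    intro φ
    obtain ⟨y, hy, hy'⟩ := descend hlJ φ
    convert hy using 1
    refine MvPolynomial.ext _ _ fun m => ?_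
    rw [hy' m, hldef]
    simp [lin, coeff_X, apply_ite φ]
  obtain ⟨φ₀, r, hr⟩ : ∃ φ₀ : L →ₗ[κ] κ, ∃ r, φ₀ (![α, β, γ] r) ≠ 0 := by
    obtain ⟨r, hr⟩ : ∃ r, ![α, β, γ] r ≠ 0 := by
      by_contra h
      push Not at h
      exact hdf ⟨(algebraMap κ L).injective (by rw [← hβ, map_zero, show β = 0 from h 1]; simp),
        (algebraMap κ L).injective (by rw [← hγ, map_zero, show γ = 0 from h 2]; simp)⟩
    obtain ⟨φ₀, h⟩ := Module.Projective.exists_dual_ne_zero κ hr
    exact ⟨φ₀, r, h⟩
  set v : Fin 3 → L := ![α, β, γ]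
  set w : Fin 3 → κ := fun i => φ₀ (v i)
  have hrel : ∀ s, w r • v s = w s • v r := by
    intro s
    rw [← sub_eq_zero]
    refine (Module.forall_dual_apply_eq_zero_iff κ _).1 fun φ => ?_
    have := forms_prop hI (hφ φ₀) (hφ φ) r s
    simp only [map_sub, map_smul, smul_eq_mul]
    linear_combination this
  set A : Fin 3 → κ := ![a, d, f]
  have hA : ∀ s, algebraMap κ L (A s) = v s ^ 2 := by
    intro s; fin_cases s <;> simp [A, v, hα, hβ, hγ]
  have hcoef : ∀ s, A s = A r / w r ^ 2 * w s ^ 2 := by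
    intro s
    apply (algebraMap κ L).injective
    have h1 := hrel s
    rw [Algebra.smul_def, Algebra.smul_def] at h1
    have hr' : algebraMap κ L (w r) ≠ 0 := by simpa [w] using hr
    rw [map_mul, map_div₀, map_pow, map_pow, hA, hA, div_mul_eq_mul_div, eq_div_iff (pow_ne_zero 2 hr'),
      ← mul_pow, ← mul_pow, mul_comm (v s), h1, mul_comm]
  refine ⟨A r / w r ^ 2, w, ?_⟩
  have h2P' : (2 : MvPolynomial (Fin 2) κ) = 0 := by
    rw [← map_ofNat (C : κ →+* MvPolynomial (Fin 2) κ) 2, h2, map_zero]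
  have e0 := congrArg (C : κ → MvPolynomial (Fin 2) κ) (hcoef 0)
  have e1 := congrArg (C : κ → MvPolynomial (Fin 2) κ) (hcoef 1)
  have e2 := congrArg (C : κ → MvPolynomial (Fin 2) κ) (hcoef 2)
  simp only [map_mul, map_pow] at e0 e1 e2
  simp only [quad, lin, map_zero, zero_mul, add_zero, show A 0 = a from rfl, show A 1 = d from rfl,
    show A 2 = f from rfl] at e0 e1 e2 ⊢
  set P := C (A r / w r ^ 2) with hP
  linear_combination e0 + (X 0) ^ 2 * e1 + (X 1) ^ 2 * e2 +
    (-(P * C (w 0) * (C (w 1) * X 0)) - P * C (w 0) * (C (w 2) * X 1) - P * (C (w 1) * X 0) * (C (w 2) * X 1)) * h2P'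

theorem conic (a b c d e f : κ) (hmem : quad a b c d e f ∈ I ^ 2) :
    ∃ (j : κ) (w : Fin 3 → κ), quad a b c d e f = C j * lin w ^ 2 := by
  by_cases h2 : (2 : κ) = 0
  · exact conic_of_two_eq_zero hI h2 a b c d e f hmem
  · exact conic_of_two_ne_zero hI h2 a b c d e f hmem

end Groth.Agent.Pool36
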