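import Mathlib

/-!
Irreducibility of the generic determinant.
-/

set_option autoImplicit false
universe u v

namespace Groth.Agent.Pool36

open Finset MvPolynomial

variable {k : Type u} [Field k] {σ : Type v}

theorem degreeOf_det_free {n : ℕ} (e : Fin n → Fin n → σ) (t : σ) (h : ∀ i j, e i j ≠ t) :
    ((Matrix.of fun i j => (X (e i j) : MvPolynomial σ k)).det).degreeOf t = 0 := by
  classical
  rw [Matrix.det_apply]
  refine Nat.le_zero.1 ((degreeOf_sum_le _ _ _).trans (Finset.sup_le fun s _ => ?_))
  rw [Units.smul_def, zsmul_eq_mul]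
  refine (degreeOf_mul_le _ _ _).trans (le_of_eq ?_)
  rw [show ((↑(Equiv.Perm.sign s) : ℤ) : MvPolynomial σ k) = C ((↑(Equiv.Perm.sign s) : ℤ) : k) by simp,
    degreeOf_C, zero_add]
  refine Nat.le_zero.1 ((degreeOf_prod_le _ _ _).trans (le_of_eq (sum_eq_zero fun i _ => ?_)))
  rw [Matrix.of_apply]
  exact degreeOf_X_of_ne (h _ _).symm

theorem det_irreducible : ∀ (n : ℕ) (e : Fin (n + 1) → Fin (n + 1) → σ),
    Function.Injective (fun p : Fin (n + 1) × Fin (n + 1) => e p.1 p.2) →
      Irreducible (Matrix.of fun i j => (X (e i j) : MvPolynomial σ k)).det := by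
  classical
  intro n
  induction n with
  | zero =>
    intro e _
    rw [Matrix.det_fin_one, Matrix.of_apply]
    exact MvPolynomial.X_prime.irreducible
  | succ n ih =>
    intro e he
    set M := Matrix.of fun i j => (X (e i j) : MvPolynomial σ k) with hM
    set t := e 0 0
    have hne : ∀ {a b c d : Fin (n + 2)}, (a, b) ≠ (c, d) → e a b ≠ e c d := fun h h' => h (he h')
    set A := (M.submatrix Fin.succ Fin.succ).det with hA
    have hAirr : Irreducible A := by
      rw [hA, show M.submatrix Fin.succ Fin.succ =
        Matrix.of fun i j : Fin (n + 1) => (X (e i.succ j.succ) : MvPolynomial σ k) from rfl]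
      exact ih _ fun p q h => by
        have := he (a₁ := (p.1.succ, p.2.succ)) (a₂ := (q.1.succ, q.2.succ)) h
        simpa [Prod.ext_iff] using this
    set B := ∑ j : Fin (n + 1), (-1) ^ (j.succ : ℕ) * M 0 j.succ * (M.submatrix Fin.succ j.succ.succAbove).det
    have hdet : M.det = X t * A + B := by
      rw [Matrix.det_succ_row_zero, Fin.sum_univ_succ, Fin.succAbove_zero]
      simp [B, hA, hM, t]
    have hA0 : A.degreeOf t = 0 := by
      rw [hA, show M.submatrix Fin.succ Fin.succ =
        Matrix.of fun i j : Fin (n + 1) => (X (e i.succ j.succ) : MvPolynomial σ k) from rfl]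
      exact degreeOf_det_free _ t fun i j => hne (by simp)
    have hB0 : B.degreeOf t = 0 := by
      refine Nat.le_zero.1 ((degreeOf_sum_le _ _ _).trans (Finset.sup_le fun j _ => ?_))
      refine (degreeOf_mul_le _ _ _).trans (Nat.le_of_eq ?_)
      rw [show M.submatrix Fin.succ j.succ.succAbove =
        Matrix.of fun a b : Fin (n + 1) => (X (e a.succ (j.succ.succAbove b)) : MvPolynomial σ k) from rfl,
        degreeOf_det_free _ t fun a b => hne (by simp), add_zero]
      refine Nat.le_zero.1 ((degreeOf_mul_le _ _ _).trans (Nat.le_of_eq ?_))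
      rw [show ((-1 : MvPolynomial σ k) ^ (j.succ : ℕ)) = C ((-1 : k) ^ (j.succ : ℕ)) by simp, degreeOf_C,
        zero_add, hM, Matrix.of_apply]
      exact degreeOf_X_of_ne (hne (by simp [Prod.ext_iff, (Fin.succ_ne_zero j).symm]))
    have hpd : pderiv t M.det = A := by
      have hv : ∀ {p : MvPolynomial σ k}, p.degreeOf t = 0 → pderiv t p = 0 := fun h =>
        pderiv_eq_zero_of_notMem_vars (by rw [mem_vars_iff_degreeOf_ne_zero, h]; simp)
      rw [hdet, map_add, pderiv_mul, hv hA0, hv hB0, pderiv_X_self]; ring
    -- an evaluation at which the minor vanishes and the determinant does not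
    let P : Matrix (Fin (n + 2)) (Fin (n + 2)) k := (Equiv.swap (0 : Fin (n + 2)) 1).permMatrix k
    let val : σ → k := Function.extend (fun p : Fin (n + 2) × Fin (n + 2) => e p.1 p.2) (fun p => P p.1 p.2) 0
    have hval : M.map (eval val) = P := by
      ext i j
      simp only [Matrix.map_apply, hM, Matrix.of_apply, eval_X, val]
      exact he.extend_apply (fun p => P p.1 p.2) 0 (i, j)
    have hAv : eval val A = 0 := by
      rw [hA, RingHom.map_det, RingHom.mapMatrix_apply, ← Matrix.submatrix_map, hval]
      refine Matrix.det_eq_zero_of_row_eq_zero 0 fun j => ?_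
      simp [P, Equiv.Perm.permMatrix, PEquiv.toMatrix_apply, eq_comm, Fin.succ_ne_zero]
    have hMv : eval val M.det ≠ 0 := by
      rw [RingHom.map_det, RingHom.mapMatrix_apply, hval]
      simp [P, Matrix.det_permutation]
    have hM0 : M.det ≠ 0 := fun h => hMv (by simp [h])
    have hdeg : M.det.degreeOf t ≤ 1 := by
      rw [hdet]
      refine (degreeOf_add_le _ _ _).trans (max_le ((degreeOf_mul_le _ _ _).trans ?_) (by omega))
      rw [hA0, degreeOf_X_self]
    refine ⟨fun hu => ?_, fun f g hfg => ?_⟩
    · have h1 := hu.map (constantCoeff (σ := σ) (R := k))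
      rw [RingHom.map_det, RingHom.mapMatrix_apply,
        Matrix.det_eq_zero_of_row_eq_zero (0 : Fin (n + 2)) (fun j => by simp [hM])] at h1
      simp at h1
    · have hfg0 : f ≠ 0 ∧ g ≠ 0 := mul_ne_zero_iff.1 (hfg ▸ hM0)
      have key : ∀ {f g : MvPolynomial σ k}, M.det = f * g → g.degreeOf t = 0 → IsUnit g := by
        intro f g hfg hg
        have e1 : A = pderiv t f * g := by
          rw [← hpd, hfg, pderiv_mul,
            pderiv_eq_zero_of_notMem_vars (i := t) (f := g) (by rw [mem_vars_iff_degreeOf_ne_zero, hg]; simp)]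
          ring
        rcases hAirr.isUnit_or_isUnit e1 with h | h
        · exfalso
          apply hMv
          obtain ⟨w, hw⟩ := h
          rw [hfg, map_mul]
          have : eval val g = 0 := by
            have := hAv
            rw [e1, map_mul, mul_eq_zero] at this
            exact this.resolve_left (((w.isUnit.map (eval val))).ne_zero |> fun h => by rwa [hw] at h)
          rw [this, mul_zero]
        · exact h
      have hsum : f.degreeOf t + g.degreeOf t ≤ 1 := by
        rw [← degreeOf_mul_eq hfg0.1 hfg0.2, ← hfg]; exact hdeg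
      rcases Nat.eq_zero_or_pos (g.degreeOf t) with h | h
      · exact Or.inr (key hfg h)
      · exact Or.inl (key (hfg.trans (mul_comm f g)) (by omega))

end Groth.Agent.Pool36
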