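import Mathlib

/-!
Binary dihedral subgroups of `SL(2, K)` from solutions of a conic.
-/

set_option autoImplicit false
universe u v

namespace Groth.Agent.Pool36

open Matrix

variable {K : Type u} {L : Type v} [Field K] [Field L] [Algebra K L]

theorem exists_binary_dihedral (n : ℕ) (hn : 2 ≤ n) (ξ : L) (hξ : IsPrimitiveRoot ξ (2 * n)) (c : K)
    (hc : algebraMap K L (2 * c) = ξ + ξ⁻¹) (x y : K) (hxy : x ^ 2 - (c ^ 2 - 1) * y ^ 2 = -1) :
    ∃ f : QuaternionGroup n →* SpecialLinearGroup (Fin 2) K, Function.Injective f := by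
  haveI : NeZero n := ⟨by omega⟩
  haveI : NeZero (2 * n) := ⟨by omega⟩
  let S : SpecialLinearGroup (Fin 2) K := ⟨!![c, c ^ 2 - 1; 1, c], by rw [det_fin_two_of]; ring⟩
  let J : SpecialLinearGroup (Fin 2) K := ⟨!![x, -((c ^ 2 - 1) * y); y, -x], by
    rw [det_fin_two_of]; linear_combination -hxy⟩
  have hSJS : S * J * S = J := Subtype.ext (by
    show (!![c, c ^ 2 - 1; 1, c] : Matrix (Fin 2) (Fin 2) K) * !![x, -((c ^ 2 - 1) * y); y, -x] *
      !![c, c ^ 2 - 1; 1, c] = !![x, -((c ^ 2 - 1) * y); y, -x]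
    simp only [mul_fin_two]
    ext i j
    fin_cases i <;> fin_cases j <;> simp <;> ring)
  have hJ2 : (J * J).1 = -1 := by
    show (!![x, -((c ^ 2 - 1) * y); y, -x] : Matrix (Fin 2) (Fin 2) K) * !![x, -((c ^ 2 - 1) * y); y, -x] = -1
    simp only [mul_fin_two]
    ext i j
    fin_cases i <;> fin_cases j <;> simp <;> first | linear_combination hxy | linear_combination -hxy | ring
  have hξ0 : ξ ≠ 0 := hξ.ne_zero (by omega)
  have hξ1 : ξ - ξ⁻¹ ≠ 0 := fun h => by
    have h2 : ξ ^ 2 = 1 := by
      rw [sub_eq_zero] at h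
      calc ξ ^ 2 = ξ * ξ := sq ξ
        _ = ξ * ξ⁻¹ := by rw [← h]
        _ = 1 := mul_inv_cancel₀ hξ0
    have := Nat.le_of_dvd (by norm_num) ((hξ.pow_eq_one_iff_dvd 2).1 h2)
    omega
  set φ := algebraMap K L
  have hc2 : 2 * φ c = ξ + ξ⁻¹ := by rw [← hc, map_mul, map_ofNat]
  let V : Matrix (Fin 2) (Fin 2) L := !![ξ - φ c, ξ⁻¹ - φ c; 1, 1]
  have hV : IsUnit V := by
    rw [isUnit_iff_isUnit_det, isUnit_iff_ne_zero, det_fin_two_of]
    intro h; exact hξ1 (by linear_combination h)
  have hSV : S.1.map φ * V = V * diagonal ![ξ, ξ⁻¹] := by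
    ext i j
    have hi : ξ * ξ⁻¹ = 1 := mul_inv_cancel₀ hξ0
    fin_cases i <;> fin_cases j <;> simp [S, V, Matrix.mul_apply, Fin.sum_univ_two] <;>
      first
        | linear_combination ξ * hc2 + hi
        | linear_combination ξ⁻¹ * hc2 + hi
        | ring
  have hmul : ∀ A B : SpecialLinearGroup (Fin 2) K, (A * B).1 = A.1 * B.1 := fun _ _ => rfl
  have hpowc : ∀ (A : SpecialLinearGroup (Fin 2) K) (m : ℕ), (A ^ m).1 = A.1 ^ m :=
    fun A m => Matrix.SpecialLinearGroup.coe_pow A m
  have hpow : ∀ i : ℕ, (S ^ i).1.map φ * V = V * diagonal ![ξ ^ i, ξ⁻¹ ^ i] := by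
    intro i
    induction i with
    | zero => ext a b; fin_cases a <;> fin_cases b <;> simp [Matrix.mul_apply, Fin.sum_univ_two]
    | succ i ih =>
      rw [pow_succ, hmul, Matrix.map_mul, mul_assoc, hSV, ← mul_assoc, ih, mul_assoc,
        diagonal_mul_diagonal]
      congr 2
      funext a
      fin_cases a <;> simp [pow_succ]
  have hinjmap : Function.Injective (fun M : Matrix (Fin 2) (Fin 2) K => M.map φ) :=
    Matrix.map_injective φ.injective
  have hSn : (S ^ n).1 = -1 := by
    apply hinjmap
    apply hV.mul_left_injective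
    show (S ^ n).1.map φ * V = (-1 : Matrix (Fin 2) (Fin 2) K).map φ * V
    have hn1 : ξ ^ n = -1 :=
      (IsPrimitiveRoot.pow (by omega) hξ (mul_comm 2 n)).eq_neg_one_of_two_right
    rw [hpow, inv_pow, hn1, show ((-1 : Matrix (Fin 2) (Fin 2) K).map φ) = -1 by
      ext a b; fin_cases a <;> fin_cases b <;> simp]
    ext a b; fin_cases a <;> fin_cases b <;> simp [Matrix.mul_apply, Fin.sum_univ_two]
  have hS2n : S ^ (2 * n) = 1 := Subtype.ext (by
    rw [mul_comm, pow_mul, hpowc, hSn]; exact neg_one_sq)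
  have hJJ : J * J = S ^ n := Subtype.ext (hJ2.trans hSn.symm)
  have hmod : ∀ i : ℕ, S ^ (i % (2 * n)) = S ^ i := fun i => by
    conv_rhs => rw [← Nat.mod_add_div i (2 * n)]
    rw [pow_add, pow_mul, hS2n, one_pow, mul_one]
  let g : ZMod (2 * n) → SpecialLinearGroup (Fin 2) K := fun i => S ^ i.val
  have gadd : ∀ i j, g (i + j) = g i * g j := fun i j => by
    simp only [g, ZMod.val_add, hmod, pow_add]
  have gn : g (n : ZMod (2 * n)) = S ^ n := by simp only [g, ZMod.val_natCast, hmod]
  have hswap : ∀ i, g i * J = J * g (-i) := by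
    intro i
    have h1 : ∀ m : ℕ, S ^ m * J * S ^ m = J := by
      intro m
      induction m with
      | zero => simp
      | succ m ih =>
        calc S ^ (m + 1) * J * S ^ (m + 1) = S * (S ^ m * J * S ^ m) * S := by
              rw [pow_succ']; nth_rw 2 [← pow_succ']; rw [pow_succ]; simp only [mul_assoc]
          _ = J := by rw [ih, hSJS]
    have h2 : g i * J * g i = J := h1 i.val
    calc g i * J = g i * J * (g i * g (-i)) := by rw [← gadd]; simp [g]
      _ = J * g (-i) := by rw [← mul_assoc, h2]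
  let f : QuaternionGroup n → SpecialLinearGroup (Fin 2) K := fun q =>
    match q with
    | .a i => g i
    | .xa i => J * g i
  refine ⟨MonoidHom.mk' f ?_, ?_⟩
  · rintro (i | i) (j | j)
    · exact gadd i j
    · show J * g (j - i) = g i * (J * g j)
      rw [← mul_assoc, hswap, mul_assoc, ← gadd, neg_add_eq_sub]
    · show J * g (i + j) = J * g i * g j
      rw [gadd, mul_assoc]
    · show g ((n : ZMod (2 * n)) + j - i) = J * g i * (J * g j)
      rw [mul_assoc, ← mul_assoc (g i), hswap, mul_assoc, ← mul_assoc J, hJJ, ← gn, ← gadd, ← gadd]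
      congr 1; ring
  · refine (injective_iff_map_eq_one _).2 ?_
    rintro (i | i) hq
    · have h1 : (S ^ i.val).1.map φ * V = V := by
        have := congrArg Subtype.val (show S ^ i.val = 1 from hq)
        rw [this]
        simp
      rw [hpow] at h1
      have h2 := congrFun (congrFun h1 1) 0
      simp [V, Matrix.mul_apply, Fin.sum_univ_two] at h2
      have := (hξ.pow_eq_one_iff_dvd _).1 h2
      rw [QuaternionGroup.one_def]
      congr 1
      have := Nat.eq_zero_of_dvd_of_lt this (ZMod.val_lt i)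
      exact (ZMod.val_eq_zero i).1 this
    · exfalso
      have hJg : J * g i = 1 := hq
      have hcomm : J * S = S * J := by
        have hJ : J = (g i)⁻¹ := eq_inv_of_mul_eq_one_left hJg
        rw [hJ]
        exact ((Commute.refl S).pow_left i.val).inv_left
      have h10 : c * y - x = c * y + x ∧ (c ^ 2 - 1) * y = -((c ^ 2 - 1) * y) := by
        have e := congrArg Subtype.val hcomm
        rw [hmul, hmul] at e
        simp only [S, J, mul_fin_two] at e
        have e10 := congrFun (congrFun e 1) 0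
        have e00 := congrFun (congrFun e 0) 0
        simp at e10 e00
        exact ⟨by linear_combination e10, by linear_combination -e00⟩
      have hx : (2 : K) * x = 0 := by linear_combination -h10.1
      have hy : (2 : K) * ((c ^ 2 - 1) * y ^ 2) = 0 := by linear_combination y * h10.2
      have h2 : (2 : K) = 0 := by linear_combination 2 * hxy - x * hx + hy
      have hne : (2 : L) ≠ 0 := fun h => hξ1 (by
        have : ξ + ξ⁻¹ = 0 := by rw [← hc2, h, zero_mul]
        linear_combination this - ξ⁻¹ * h)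
      exact hne (by rw [← map_ofNat φ 2, h2, map_zero])

end Groth.Agent.Pool36
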