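import Mathlib

/-!
Flatness of the last term of an acyclic complex which stays acyclic modulo every ideal.
-/

set_option autoImplicit false
universe u

namespace Groth.Agent.Pool36

open CategoryTheory TensorProduct MonoidalCategory

variable {R : Type u} [CommRing R]

theorem flat_of_inter {P M : Type u} [AddCommGroup P] [Module R P] [AddCommGroup M] [Module R M]
    [Module.Flat R P] (π : P →ₗ[R] M) (hπ : Function.Surjective π)
    (h : ∀ I : Ideal R, ∀ y : P, y ∈ I • (⊤ : Submodule R P) → π y = 0 → y ∈ I • LinearMap.ker π) :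
    Module.Flat R M := by
  rw [Module.Flat.iff_lTensor_injective]
  intro I _
  rw [injective_iff_map_eq_zero]
  intro t ht
  -- lift to the ideal tensored with `P`
  obtain ⟨s, rfl⟩ := LinearMap.rTensor_surjective I hπ t
  set μ : P ⊗[R] I →ₗ[R] P := (TensorProduct.rid R P).toLinearMap ∘ₗ LinearMap.lTensor P I.subtype
  have hsq : ∀ w : P ⊗[R] I, π (μ w) =
      TensorProduct.rid R M (LinearMap.lTensor M I.subtype (LinearMap.rTensor I π w)) := by
    intro w
    induction w with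
    | zero => simp
    | tmul y i => simp [μ]
    | add a b ha hb => simp only [map_add, ha, hb]
  have hy : π (μ s) = 0 := by rw [hsq, ht, map_zero]
  have hmem : μ s ∈ I • (⊤ : Submodule R P) := by
    clear hy ht
    induction s with
    | zero => simp
    | tmul y i => simpa [μ] using Submodule.smul_mem_smul i.2 (Submodule.mem_top (x := y))
    | add a b ha hb => rw [map_add]; exact add_mem ha hb
  have hin := h I _ hmem hy
  have hμ : Function.Injective μ :=
    (TensorProduct.rid R P).injective.comp (Module.Flat.lTensor_preserves_injective_linearMap _ I.injective_subtype)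
  have hlift : ∀ y ∈ I • LinearMap.ker π, ∃ w, LinearMap.rTensor I π w = 0 ∧ μ w = y := by
    intro y hy
    refine Submodule.smul_induction_on hy (fun i hi m hm => ⟨m ⊗ₜ ⟨i, hi⟩, ?_, ?_⟩) ?_
    · rw [LinearMap.rTensor_tmul, LinearMap.mem_ker.1 hm, zero_tmul]
    · simp [μ]
    · rintro _ _ ⟨a, ha, rfl⟩ ⟨b, hb, rfl⟩
      exact ⟨a + b, by rw [map_add, ha, hb, add_zero], map_add _ _ _⟩
  obtain ⟨w, hw, hw'⟩ := hlift _ hin
  rw [← hμ hw', hw]

theorem flat_of_acyclic (d : ℕ) (hd : 1 ≤ d) (K : ChainComplex (ModuleCat.{u} R) ℕ)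
    (hflat : ∀ i : ℕ, 1 ≤ i → i ≤ d → Module.Flat R (K.X i)) (hK : K.Acyclic)
    (hbc : ∀ I : Ideal R,
      (((tensorLeft (ModuleCat.of R (R ⧸ I))).mapHomologicalComplex (ComplexShape.down ℕ)).obj K).Acyclic) :
    Module.Flat R (K.X 0) := by
  haveI := hflat 1 le_rfl hd
  have hsurj : Function.Surjective (K.d 1 0) := by
    intro x
    have h := (K.exactAt_iff' 1 0 0 (by simp) (by simp)).1 (hK 0)
    rw [ShortComplex.moduleCat_exact_iff] at h
    exact h x (by
      show (K.d 0 0).hom x = 0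
      rw [K.shape 0 0 (by simp)]; rfl)
  refine flat_of_inter (K.d 1 0).hom hsurj fun I y hy hy0 => ?_
  obtain ⟨z, rfl⟩ : ∃ z, (K.d 2 1).hom z = y :=
    ((ShortComplex.moduleCat_exact_iff _).1 ((K.exactAt_iff' 2 1 0 (by simp) (by simp)).1 (hK 1))) y hy0
  set K' := ((tensorLeft (ModuleCat.of R (R ⧸ I))).mapHomologicalComplex (ComplexShape.down ℕ)).obj K
  have hcyc : (K'.d 2 1).hom ((1 : R ⧸ I) ⊗ₜ[R] z) = 0 := by
    show (1 : R ⧸ I) ⊗ₜ[R] (K.d 2 1).hom z = 0
    apply (TensorProduct.quotTensorEquivQuotSMul (K.X 1) I).injective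
    rw [map_zero, ← map_one (Ideal.Quotient.mk I), TensorProduct.quotTensorEquivQuotSMul_mk_tmul, one_smul]
    exact (Submodule.Quotient.mk_eq_zero _).2 hy
  obtain ⟨t, ht⟩ :=
    ((ShortComplex.moduleCat_exact_iff _).1 ((K'.exactAt_iff' 3 2 1 (by simp) (by simp)).1 (hbc I 2))) _ hcyc
  obtain ⟨w, rfl⟩ : ∃ w : K.X 3, (1 : R ⧸ I) ⊗ₜ[R] w = t := by
    refine TensorProduct.induction_on t ⟨0, tmul_zero _ _⟩ (fun r w => ?_) ?_
    · obtain ⟨r, rfl⟩ := Ideal.Quotient.mk_surjective r
      exact ⟨r • w, by rw [← smul_tmul, Algebra.smul_def, mul_one]; rfl⟩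
    · rintro _ _ ⟨a, rfl⟩ ⟨b, rfl⟩; exact ⟨a + b, tmul_add _ _ _⟩
  have hdiff : z - (K.d 3 2).hom w ∈ I • (⊤ : Submodule R (K.X 2)) := by
    rw [← Submodule.Quotient.mk_eq_zero, ← one_smul R (z - (K.d 3 2).hom w),
      ← TensorProduct.quotTensorEquivQuotSMul_mk_tmul, map_one, tmul_sub]
    refine (LinearEquiv.map_eq_zero_iff _).2 (sub_eq_zero.2 ?_)
    exact ht.symm
  have hdd : (K.d 2 1).hom ((K.d 3 2).hom w) = 0 := by
    rw [← LinearMap.comp_apply, ← ModuleCat.hom_comp, K.d_comp_d]; rfl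
  have hmap : (K.d 2 1).hom (z - (K.d 3 2).hom w) ∈ I • LinearMap.ker (K.d 1 0).hom := by
    refine Submodule.smul_induction_on hdiff (fun i hi m _ => ?_) (fun a b ha hb => ?_)
    · rw [map_smul]
      refine Submodule.smul_mem_smul hi ?_
      rw [LinearMap.mem_ker, ← LinearMap.comp_apply, ← ModuleCat.hom_comp, K.d_comp_d]; rfl
    · rw [map_add]; exact add_mem ha hb
  rwa [map_sub, hdd, sub_zero] at hmap

end Groth.Agent.Pool36
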