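import Mathlib

/-!
Surjectivity of weighted Gaussian maps on projective space.
-/

set_option autoImplicit false
universe u

namespace Groth.Agent.Pool36

open Finset MvPolynomial

theorem exists_sub_degree {σ : Type*} (γ : σ →₀ ℕ) : ∀ N, N ≤ γ.degree → ∃ α, α ≤ γ ∧ α.degree = N := by
  classical
  intro N
  induction N with
  | zero => exact fun _ => ⟨0, zero_le, map_zero _⟩
  | succ N ih =>
    intro h
    obtain ⟨α, hα, hdeg⟩ := ih (by omega)
    obtain ⟨i, hi⟩ : ∃ i, α i < γ i := by
      by_contra hcon
      push Not at hcon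
      have : γ = α := le_antisymm (fun i => hcon i) hα
      rw [this, hdeg] at h; omega
    refine ⟨α + Finsupp.single i 1, fun j => ?_, by rw [map_add, hdeg, Finsupp.degree_single]⟩
    have hj : α j ≤ γ j := hα j
    rw [Finsupp.add_apply, Finsupp.single_apply]
    split_ifs with hij
    · subst hij; omega
    · omega

variable {k : Type u} [Field k] [CharZero k] {n : ℕ}

/-- The tuple with a single monomial entry. -/
noncomputable def mono (γ : Fin (n + 1) →₀ ℕ) (i : Fin (n + 1)) : Fin (n + 1) → MvPolynomial (Fin (n + 1)) k :=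
  Pi.single i (monomial (γ - Finsupp.single i 1) 1)

theorem gauss_monomial (a b : ℕ) (α β : Fin (n + 1) →₀ ℕ) :
    (fun i => (b : k) • (monomial β (1 : k) * pderiv i (monomial α 1)) -
      (a : k) • (monomial α (1 : k) * pderiv i (monomial β 1))) =
      ∑ i, ((b : k) * α i - (a : k) * β i) • (mono (α + β) i : Fin (n + 1) → MvPolynomial (Fin (n + 1)) k) := by
  funext l
  rw [Finset.sum_apply, sum_eq_single l (fun i _ hi => by simp [mono, Ne.symm hi]) (by simp)]
  simp only [Pi.smul_apply, mono, Pi.single_eq_same, pderiv_monomial, monomial_mul, one_mul, smul_monomial,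
    smul_eq_mul, mul_one]
  have e1 : monomial (β + (α - Finsupp.single l 1)) ((b : k) * α l) =
      monomial (α + β - Finsupp.single l 1) ((b : k) * α l) := by
    rcases Nat.eq_zero_or_pos (α l) with h | h
    · simp [h]
    · refine congrArg (fun t => monomial t _) (Finsupp.ext fun j => ?_)
      rw [Finsupp.add_apply, Finsupp.tsub_apply, Finsupp.tsub_apply, Finsupp.add_apply, Finsupp.single_apply]
      split_ifs with hj
      · subst hj; omega
      · omega
  have e2 : monomial (α + (β - Finsupp.single l 1)) ((a : k) * β l) =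
      monomial (α + β - Finsupp.single l 1) ((a : k) * β l) := by
    rcases Nat.eq_zero_or_pos (β l) with h | h
    · simp [h]
    · refine congrArg (fun t => monomial t _) (Finsupp.ext fun j => ?_)
      rw [Finsupp.add_apply, Finsupp.tsub_apply, Finsupp.tsub_apply, Finsupp.add_apply, Finsupp.single_apply]
      split_ifs with hj
      · subst hj; omega
      · omega
  rw [e1, e2, ← map_sub]

theorem gauss_surjective (e a b : ℕ) (he : 0 < e) (ha : 0 < a) (hab : a < b)
    (f : Fin (n + 1) → MvPolynomial (Fin (n + 1)) k)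
    (hf : ∀ i, (f i).IsHomogeneous ((a + b) * e - 1))
    (hEuler : ∑ i, X i * f i = 0) :
    f ∈ Submodule.span k
      {g : Fin (n + 1) → MvPolynomial (Fin (n + 1)) k |
        ∃ σ τ : MvPolynomial (Fin (n + 1)) k, σ.IsHomogeneous (a * e) ∧ τ.IsHomogeneous (b * e) ∧
          g = fun i => (b : k) • (τ * pderiv i σ) - (a : k) • (σ * pderiv i τ)} := by
  classical
  set Sp := Submodule.span k
      {g : Fin (n + 1) → MvPolynomial (Fin (n + 1)) k |
        ∃ σ τ : MvPolynomial (Fin (n + 1)) k, σ.IsHomogeneous (a * e) ∧ τ.IsHomogeneous (b * e) ∧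
          g = fun i => (b : k) • (τ * pderiv i σ) - (a : k) • (σ * pderiv i τ)}
  have hae : 1 ≤ a * e := Nat.mul_pos ha he
  have hbe : 1 ≤ b * e := Nat.mul_pos (ha.trans hab) he
  have hW : ∀ γ α : Fin (n + 1) →₀ ℕ, γ.degree = (a + b) * e → α ≤ γ → α.degree = a * e →
      ∑ i, ((b : k) * α i - (a : k) * (γ - α) i) • (mono γ i : Fin (n + 1) → MvPolynomial (Fin (n + 1)) k) ∈ Sp := by
    intro γ α hγ hle hα
    have hsum : α + (γ - α) = γ := add_tsub_cancel_of_le hle
    have hdeg : (γ - α).degree = b * e := by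
      have := congrArg (fun x : Fin (n + 1) →₀ ℕ => x.degree) hsum
      simp only [map_add] at this
      rw [hα, hγ, add_mul] at this
      omega
    refine Submodule.subset_span ⟨monomial α 1, monomial (γ - α) 1, isHomogeneous_monomial 1 hα,
      isHomogeneous_monomial 1 hdeg, ?_⟩
    rw [gauss_monomial, hsum]
  have hD : ∀ (γ : Fin (n + 1) →₀ ℕ) (i j : Fin (n + 1)), γ.degree = (a + b) * e → γ i ≠ 0 → γ j ≠ 0 →
      (mono γ i : Fin (n + 1) → MvPolynomial (Fin (n + 1)) k) - mono γ j ∈ Sp := by
    intro γ i j hγ hi hj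
    rcases eq_or_ne i j with rfl | hij
    · simp
    set γ' := γ - Finsupp.single i 1 - Finsupp.single j 1
    have hγ' : γ' + Finsupp.single i 1 + Finsupp.single j 1 = γ := by
      ext l
      simp only [γ', Finsupp.add_apply, Finsupp.tsub_apply, Finsupp.single_apply]
      split_ifs with h1 h2 h2 <;> first | omega | (subst h1; omega) | (subst h2; omega)
    have hdeg : a * e - 1 ≤ γ'.degree := by
      have := congrArg (fun x : Fin (n + 1) →₀ ℕ => x.degree) hγ'
      simp only [map_add, Finsupp.degree_single] at this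
      rw [hγ, add_mul] at this
      omega
    obtain ⟨α', hle, hα'⟩ := exists_sub_degree γ' _ hdeg
    have h1 := hW γ (α' + Finsupp.single i 1) hγ (by
      conv_rhs => rw [← hγ']
      exact (add_le_add hle le_rfl).trans le_self_add) (by rw [map_add, hα', Finsupp.degree_single]; omega)
    have h2 := hW γ (α' + Finsupp.single j 1) hγ (by
      conv_rhs => rw [← hγ', add_right_comm]
      exact (add_le_add hle le_rfl).trans le_self_add) (by rw [map_add, hα', Finsupp.degree_single]; omega)
    have h3 := Sp.sub_mem h1 h2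
    rw [← sum_sub_distrib] at h3
    have key : ∀ l, ((b : k) * ((α' + Finsupp.single i 1 : Fin (n + 1) →₀ ℕ) l : ℕ) -
        (a : k) * ((γ - (α' + Finsupp.single i 1) : Fin (n + 1) →₀ ℕ) l : ℕ)) -
        ((b : k) * ((α' + Finsupp.single j 1 : Fin (n + 1) →₀ ℕ) l : ℕ) -
        (a : k) * ((γ - (α' + Finsupp.single j 1) : Fin (n + 1) →₀ ℕ) l : ℕ)) =
        ((a : k) + b) * ((if i = l then 1 else 0) - (if j = l then 1 else 0)) := by
      intro l
      have hl := DFunLike.congr_fun hγ' l
      have hl2 : α' l ≤ γ' l := hle l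
      simp only [Finsupp.add_apply, Finsupp.tsub_apply, Finsupp.single_apply] at hl ⊢
      rw [Nat.cast_sub (by split_ifs at hl ⊢ <;> omega), Nat.cast_sub (by split_ifs at hl ⊢ <;> omega)]
      push_cast
      ring
    rw [sum_congr rfl fun l _ => (sub_smul _ _ _).symm.trans (by rw [key l])] at h3
    simp only [mul_smul, sub_smul, ite_smul, one_smul, zero_smul, ← smul_sum, sum_sub_distrib,
      sum_ite_eq, mem_univ, if_true] at h3
    have hne : (a : k) + b ≠ 0 := by rw [← Nat.cast_add]; exact Nat.cast_ne_zero.2 (by omega)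
    exact (Sp.smul_mem_iff hne).1 h3
  let piv : (Fin (n + 1) →₀ ℕ) → Fin (n + 1) := fun γ =>
    if h : γ.support.Nonempty then h.choose else 0
  let Ψ : MvPolynomial (Fin (n + 1)) k →ₗ[k] (Fin (n + 1) → MvPolynomial (Fin (n + 1)) k) :=
    (basisMonomials (Fin (n + 1)) k).constr k fun γ => mono γ (piv γ)
  have hΨ : ∀ γ : Fin (n + 1) →₀ ℕ, Ψ (monomial γ 1) = mono γ (piv γ) := fun γ => by
    rw [← show basisMonomials (Fin (n + 1)) k γ = monomial γ 1 from congrFun (coe_basisMonomials (Fin (n + 1)) k) γ]
    exact Module.Basis.constr_basis _ _ _ _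
  have hfeq : f = ∑ i, (Pi.single i (f i) - Ψ (X i * f i)) := by
    rw [sum_sub_distrib, ← map_sum, hEuler, map_zero, sub_zero, Finset.univ_sum_single]
  rw [hfeq]
  refine Sp.sum_mem fun i _ => ?_
  have hrep : f i = ∑ m ∈ (f i).support, (f i).coeff m • monomial m (1 : k) := by
    conv_lhs => rw [(f i).as_sum]
    exact sum_congr rfl fun m _ => by rw [smul_monomial, smul_eq_mul, mul_one]
  rw [hrep, mul_sum, map_sum, ← LinearMap.single_apply k, map_sum, ← sum_sub_distrib]
  refine Sp.sum_mem fun m hm => ?_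
  rw [mul_smul_comm, map_smul, map_smul, ← smul_sub]
  refine Sp.smul_mem _ ?_
  set γ := Finsupp.single i 1 + m with hγ
  rw [show X i * monomial m (1 : k) = monomial γ 1 by rw [hγ, X, monomial_mul, one_mul], hΨ,
    LinearMap.single_apply, show monomial m (1 : k) = monomial (γ - Finsupp.single i 1) 1 by
      rw [hγ, add_tsub_cancel_left]]
  have hγd : γ.degree = (a + b) * e := by
    have hmd : m.degree = (a + b) * e - 1 := by
      by_contra h
      exact (mem_support_iff.1 hm) ((hf i).coeff_eq_zero h)
    rw [hγ, map_add, Finsupp.degree_single, hmd]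
    have : 0 < (a + b) * e := Nat.mul_pos (by omega) he
    omega
  have hγi : γ i ≠ 0 := by simp [hγ]
  refine hD γ i (piv γ) hγd hγi ?_
  have hne : γ.support.Nonempty := ⟨i, Finsupp.mem_support_iff.2 hγi⟩
  simp only [piv, dif_pos hne]
  exact Finsupp.mem_support_iff.1 hne.choose_spec

end Groth.Agent.Pool36
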