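import Mathlib

/-!
Quotients of graded rings by homogeneous ideals.
-/

set_option autoImplicit false
universe u v

namespace Groth.Agent.Pool36

open DirectSum

variable {ι : Type u} [DecidableEq ι] [AddMonoid ι] {A : Type v} [CommRing A]
  (𝒜 : ι → AddSubgroup A) [GradedRing 𝒜] (I : Ideal A)

theorem homogeneous_iff : I.IsHomogeneous 𝒜 ↔
    ∃ ℬ : ι → AddSubgroup (A ⧸ I), Nonempty (GradedRing ℬ) ∧
      ∀ i : ι, (𝒜 i).map (Ideal.Quotient.mk I : A →+ A ⧸ I) ≤ ℬ i := by
  classical
  constructor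
  · intro hI
    let q : A →+ A ⧸ I := (Ideal.Quotient.mk I : A →+ A ⧸ I)
    let ℬ : ι → AddSubgroup (A ⧸ I) := fun i => (𝒜 i).map q
    haveI : SetLike.GradedMonoid ℬ :=
      { one_mem := ⟨1, SetLike.one_mem_graded 𝒜, map_one (Ideal.Quotient.mk I)⟩
        mul_mem := by
          rintro i j _ _ ⟨a, ha, rfl⟩ ⟨b, hb, rfl⟩
          exact ⟨a * b, SetLike.mul_mem_graded ha hb, map_mul (Ideal.Quotient.mk I) a b⟩ }
    have hint : DirectSum.IsInternal ℬ := by
      refine ⟨?_, ?_⟩
      · refine (injective_iff_map_eq_zero _).2 fun x hx => ?_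
        have hch : ∀ i, ∃ a : 𝒜 i, q a = (x i : A ⧸ I) := fun i => by
          obtain ⟨a, ha, he⟩ := (x i).2
          exact ⟨⟨a, ha⟩, he⟩
        choose a ha using hch
        set y : ⨁ i, 𝒜 i := ∑ i ∈ x.support, DirectSum.of (fun i => 𝒜 i) i (a i) with hydef
        have hy : ∀ i, i ∈ x.support → y i = a i := fun i hi => by
          rw [hydef, DFinsupp.finsetSum_apply, Finset.sum_eq_single i
            (fun j _ hj => DirectSum.of_eq_of_ne _ _ _ hj.symm) (fun h => absurd hi h), DirectSum.of_eq_same]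
        have hsum : (DirectSum.coeAddMonoidHom 𝒜 y : A) = ∑ i ∈ x.support, (a i : A) := by
          rw [hydef, map_sum]
          exact Finset.sum_congr rfl fun i _ => DirectSum.coeAddMonoidHom_of _ _ _
        have hmem : (DirectSum.coeAddMonoidHom 𝒜 y : A) ∈ I := by
          rw [← Ideal.Quotient.eq_zero_iff_mem, hsum, map_sum, ← hx, DirectSum.coeAddMonoidHom_eq_dfinsuppSum,
            DFinsupp.sum]
          exact Finset.sum_congr rfl fun i _ => ha i
        refine DFinsupp.ext fun i => ?_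
        by_cases hi : i ∈ x.support
        · apply Subtype.ext
          show (x i : A ⧸ I) = 0
          rw [← ha i, ← hy i hi]
          have := hI i hmem
          rw [show (DirectSum.decompose 𝒜 (DirectSum.coeAddMonoidHom 𝒜 y)) = y from
            DirectSum.Decomposition.right_inv y] at this
          exact Ideal.Quotient.eq_zero_iff_mem.2 this
        · exact DFinsupp.notMem_support_iff.1 hi
      · intro z
        obtain ⟨a, rfl⟩ := Ideal.Quotient.mk_surjective z
        induction a using DirectSum.Decomposition.inductionOn 𝒜 with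
        | zero => exact ⟨0, by simp⟩
        | homogeneous m =>
          exact ⟨DirectSum.of (fun i => ℬ i) _ ⟨q (m : A), ⟨(m : A), m.2, rfl⟩⟩, DirectSum.coeAddMonoidHom_of _ _ _⟩
        | add b c hb hc =>
          obtain ⟨x, hx⟩ := hb
          obtain ⟨y, hy⟩ := hc
          exact ⟨x + y, by rw [map_add, hx, hy, map_add]⟩
    exact ⟨ℬ, ⟨{ ‹SetLike.GradedMonoid ℬ›, hint.chooseDecomposition ℬ with }⟩, fun i => le_rfl⟩
  · rintro ⟨ℬ, ⟨hℬ⟩, hle⟩
    intro i a ha
    let φ : ∀ i, 𝒜 i →+ ℬ i := fun i =>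
      ((Ideal.Quotient.mk I : A →+ A ⧸ I).comp (𝒜 i).subtype).codRestrict (ℬ i)
        (fun c => hle i ⟨c, c.2, rfl⟩)
    let y : ⨁ i, ℬ i := DirectSum.map φ (DirectSum.decompose 𝒜 a)
    have hcomp : (DirectSum.coeAddMonoidHom ℬ).comp (DirectSum.map φ) =
        (Ideal.Quotient.mk I : A →+ A ⧸ I).comp (DirectSum.coeAddMonoidHom 𝒜) := by
      refine DirectSum.addHom_ext fun j c => ?_
      simp only [AddMonoidHom.comp_apply, DirectSum.map_of, DirectSum.coeAddMonoidHom_of]
      rfl
    have hy : DirectSum.coeAddMonoidHom ℬ y = 0 := by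
      show ((DirectSum.coeAddMonoidHom ℬ).comp _) (DirectSum.decompose 𝒜 a) = 0
      rw [hcomp]
      show Ideal.Quotient.mk I (DirectSum.coeAddMonoidHom 𝒜 (DirectSum.decompose 𝒜 a)) = 0
      rw [show DirectSum.coeAddMonoidHom 𝒜 (DirectSum.decompose 𝒜 a) = a from
        DirectSum.Decomposition.left_inv a]
      exact Ideal.Quotient.eq_zero_iff_mem.2 ha
    have hy0 : y = 0 := (DirectSum.Decomposition.isInternal ℬ).injective (hy.trans (map_zero _).symm)
    have := congrArg (fun z : ⨁ i, ℬ i => ((z i : ℬ i) : A ⧸ I)) hy0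
    exact Ideal.Quotient.eq_zero_iff_mem.1 this

end Groth.Agent.Pool36
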