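import Mathlib

/-!
Representability of the functor of maps into power series with coefficients in a variable algebra.
-/

set_option autoImplicit false
universe u

namespace Groth.Agent.Pool36

open MvPowerSeries

variable (k : Type u) [Field k] (n : ℕ) (R : Type u) [CommRing R] [Algebra (MvPowerSeries (Fin n) k) R]

/-- The free algebra on the coefficients. -/
abbrev PreRep : Type u := MvPolynomial (R × (Fin n →₀ ℕ)) k

/-- The universal series attached to an element. -/
noncomputable def U (r : R) : MvPowerSeries (Fin n) (PreRep k n R) := fun m => MvPolynomial.X (r, m)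

/-- The relations. -/
noncomputable def rel : Ideal (PreRep k n R) :=
  Ideal.span {z | (∃ r s m, z = coeff m (U k n R (r + s) - U k n R r - U k n R s)) ∨
    (∃ r s m, z = coeff m (U k n R (r * s) - U k n R r * U k n R s)) ∨
    ∃ f m, z = coeff m (U k n R (algebraMap (MvPowerSeries (Fin n) k) R f) - MvPowerSeries.map MvPolynomial.C f)}

theorem exists_restriction :
    ∃ (P : Type u) (_ : CommRing P) (_ : Algebra k P)
      (u : R →ₐ[MvPowerSeries (Fin n) k] MvPowerSeries (Fin n) P),
      (∀ (Q : Type u) [CommRing Q] [Algebra k Q]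
          (f : R →ₐ[MvPowerSeries (Fin n) k] MvPowerSeries (Fin n) Q),
          ∃! g : P →ₐ[k] Q,
            (MvPowerSeries.map (σ := Fin n) (g : P →+* Q)).comp (u : R →+* MvPowerSeries (Fin n) P) =
              (f : R →+* MvPowerSeries (Fin n) Q)) ∧
      ((∃ s : Set R, s.Countable ∧ Algebra.adjoin (MvPowerSeries (Fin n) k) s = ⊤) →
        ∃ t : Set P, t.Countable ∧ Algebra.adjoin k t = ⊤) := by
  classical
  let P := PreRep k n R ⧸ rel k n R
  let q : PreRep k n R →ₐ[k] P := Ideal.Quotient.mkₐ k _
  let u₀ : R → MvPowerSeries (Fin n) P := fun r => MvPowerSeries.map (q : PreRep k n R →+* P) (U k n R r)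
  have hu : ∀ r m, coeff m (u₀ r) = q (MvPolynomial.X (r, m)) := fun r m => coeff_map _ _ _
  have hq0 : ∀ (S T : MvPowerSeries (Fin n) (PreRep k n R)), (∀ m, coeff m (S - T) ∈ rel k n R) →
      MvPowerSeries.map (q : PreRep k n R →+* P) S = MvPowerSeries.map (q : PreRep k n R →+* P) T := by
    intro S T h
    ext m
    rw [coeff_map, coeff_map]
    exact Ideal.Quotient.eq.2 (by simpa using h m)
  have hadd : ∀ r s, u₀ (r + s) = u₀ r + u₀ s := fun r s => by
    rw [← map_add]
    exact hq0 _ _ fun m => Ideal.subset_span (Or.inl ⟨r, s, m, by rw [sub_sub]⟩)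
  have hmul : ∀ r s, u₀ (r * s) = u₀ r * u₀ s := fun r s => by
    rw [← map_mul]
    exact hq0 _ _ fun m => Ideal.subset_span (Or.inr (Or.inl ⟨r, s, m, rfl⟩))
  have halg : ∀ f, u₀ (algebraMap (MvPowerSeries (Fin n) k) R f) =
      algebraMap (MvPowerSeries (Fin n) k) (MvPowerSeries (Fin n) P) f := fun f => by
    refine (hq0 _ _ fun m => Ideal.subset_span (Or.inr (Or.inr ⟨f, m, rfl⟩))).trans ?_
    ext m
    rw [coeff_map, coeff_map, MvPowerSeries.algebraMap_apply'', coeff_map]
    exact q.commutes _
  let u : R →ₐ[MvPowerSeries (Fin n) k] MvPowerSeries (Fin n) P :=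
    { toFun := u₀
      map_one' := by rw [← map_one (algebraMap (MvPowerSeries (Fin n) k) R), halg, map_one]
      map_mul' := hmul
      map_zero' := by rw [← map_zero (algebraMap (MvPowerSeries (Fin n) k) R), halg, map_zero]
      map_add' := hadd
      commutes' := halg }
  refine ⟨P, inferInstance, inferInstance, u, fun Q _ _ f => ?_, fun ⟨s, hs, hgen⟩ => ?_⟩
  · let g₀ : PreRep k n R →ₐ[k] Q := MvPolynomial.aeval fun rm => coeff rm.2 (f rm.1)
    have hg₀ : ∀ r, MvPowerSeries.map (g₀ : PreRep k n R →+* Q) (U k n R r) = f r := fun r => by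
      ext m
      rw [coeff_map]
      show g₀ (MvPolynomial.X (r, m)) = _
      simp [g₀]
    have hC : ∀ φ : MvPowerSeries (Fin n) k, MvPowerSeries.map (g₀ : PreRep k n R →+* Q)
        (MvPowerSeries.map MvPolynomial.C φ) = algebraMap (MvPowerSeries (Fin n) k) (MvPowerSeries (Fin n) Q) φ := by
      intro φ
      ext m
      rw [coeff_map, coeff_map, MvPowerSeries.algebraMap_apply'', coeff_map]
      exact g₀.commutes _
    have hker : ∀ z ∈ rel k n R, g₀ z = 0 := by
      intro z hz
      refine (Ideal.span_le (I := RingHom.ker g₀)).2 ?_ hz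
      rintro _ (⟨r, s, m, rfl⟩ | ⟨r, s, m, rfl⟩ | ⟨φ, m, rfl⟩)
      all_goals
        show (g₀ : PreRep k n R →+* Q) (coeff m _) = 0
        rw [← coeff_map]
      · rw [map_sub (MvPowerSeries.map (g₀ : PreRep k n R →+* Q)), map_sub (MvPowerSeries.map (g₀ : PreRep k n R →+* Q)),
          hg₀, hg₀, hg₀, map_add f]; simp
      · rw [map_sub (MvPowerSeries.map (g₀ : PreRep k n R →+* Q)), map_mul (MvPowerSeries.map (g₀ : PreRep k n R →+* Q)),
          hg₀, hg₀, hg₀, map_mul f]; simp
      · rw [map_sub (MvPowerSeries.map (g₀ : PreRep k n R →+* Q)), hg₀, hC, AlgHom.commutes]; simp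
    let g : P →ₐ[k] Q := Ideal.Quotient.liftₐ _ g₀ hker
    refine ⟨g, RingHom.ext fun r => MvPowerSeries.ext fun m => ?_, fun g' hg' => ?_⟩
    · show coeff m (MvPowerSeries.map (g : P →+* Q) (u₀ r)) = coeff m (f r)
      rw [coeff_map, hu]
      show g₀ (MvPolynomial.X (r, m)) = _
      simp [g₀]
    · refine Ideal.Quotient.algHom_ext k (MvPolynomial.algHom_ext fun ⟨r, m⟩ => ?_)
      have h := congrArg (coeff m) (RingHom.congr_fun hg' r)
      simp only [RingHom.comp_apply, coeff_map] at h
      show g' (q (MvPolynomial.X (r, m))) = g₀ (MvPolynomial.X (r, m))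
      rw [← hu]
      have h' : g' (coeff m (u₀ r)) = coeff m (f r) := h
      simpa [g₀] using h'
  · refine ⟨(fun rm : R × (Fin n →₀ ℕ) => coeff rm.2 (u₀ rm.1)) '' (s ×ˢ Set.univ),
      (hs.prod Set.countable_univ).image _, ?_⟩
    set T := Algebra.adjoin k ((fun rm : R × (Fin n →₀ ℕ) => coeff rm.2 (u₀ rm.1)) '' (s ×ˢ Set.univ))
    let S : Subalgebra (MvPowerSeries (Fin n) k) R :=
      { carrier := {r | ∀ m, coeff m (u r) ∈ T}
        algebraMap_mem' := fun φ m => by
          rw [AlgHom.commutes, MvPowerSeries.algebraMap_apply'', coeff_map]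
          exact T.algebraMap_mem _
        add_mem' := fun ha hb m => by rw [map_add, map_add]; exact T.add_mem (ha m) (hb m)
        mul_mem' := fun ha hb m => by
          rw [map_mul, coeff_mul]; exact T.sum_mem fun c _ => T.mul_mem (ha _) (hb _) }
    have hS : S = ⊤ := by
      rw [eq_top_iff, ← hgen, Algebra.adjoin_le_iff]
      exact fun r hr m => Algebra.subset_adjoin ⟨(r, m), ⟨hr, trivial⟩, rfl⟩
    rw [eq_top_iff]
    intro z hz
    clear hz
    obtain ⟨z, rfl⟩ := Ideal.Quotient.mk_surjective z
    induction z using MvPolynomial.induction_on with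
    | C a => exact T.algebraMap_mem a
    | add a b ha hb => rw [map_add]; exact T.add_mem ha hb
    | mul_X a rm ha =>
      rw [map_mul]
      refine T.mul_mem ha ?_
      obtain ⟨r, m⟩ := rm
      have := (show r ∈ S from hS ▸ trivial) m
      rwa [show coeff m (u r) = q (MvPolynomial.X (r, m)) from hu r m] at this

end Groth.Agent.Pool36
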